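import Groth.Agent.Ega1.PullFormal
import Groth.Agent.FormalA.AnnIdeal
import Groth.Agent.FormalA.PullbackQC
import Groth.Agent.FormalA.ProperOver
import Groth.Agent.S0791

/-!
Reduction of statements on coherent modules with proper support to a proper closed subscheme.
-/

set_option autoImplicit false
universe u

open CategoryTheory CategoryTheory.Limits AlgebraicGeometry Opposite
open Groth.Agent.FormalB.ModPow Groth.Agent.Ega1.PullFormal

namespace Groth.Agent.Ega1.ProperSupp

variable {X : Scheme.{u}}

/-- A quotient of a module killed by an ideal sheaf is killed by it. -/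
theorem killed_of_epi {I : X.IdealSheafData} {M N : X.Modules} (p : M ⟶ N) [Epi p]
    (h : ClSub.KilledByIdeal I M) : ClSub.KilledByIdeal I N := by
  apply FormalA.ClosedImm.killed_of_stalk
  intro x a ha n
  obtain ⟨m, rfl⟩ := CycB.StalkExact.stalkLin_surjective p x n
  rw [← map_smul, FormalA.ClosedImm.smul_eq_zero_of_killed h x a ha, map_zero]

theorem killed_of_le {I J : X.IdealSheafData} (hle : J ≤ I) {M : X.Modules}
    (h : ClSub.KilledByIdeal I M) : ClSub.KilledByIdeal J M :=
  fun U a ha m => h U a (hle U ha) m

theorem mul_le_left (I J : X.IdealSheafData) : I * J ≤ I := fun U => Ideal.mul_le_left (I := I.ideal U)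
theorem mul_le_right (I J : X.IdealSheafData) : I * J ≤ J := fun U => Ideal.mul_le_right (J := J.ideal U)

variable (S : Scheme.{u}) (f : X ⟶ S) [LocallyOfFiniteType f]

/-- The union of two closed subsets proper over the base is proper over the base. -/
theorem isProperOver_union {Z W : Set X} (hZ : ClSub.IsProperOver f Z)
    (hW : ClSub.IsProperOver f W) : ClSub.IsProperOver f (Z ∪ W) := by
  have h := S0791.result f Bool (fun b => if b then Z else W) (by
    intro b
    cases b
    · exact hW
    · exact hZ)
  have e : Set.iUnion (fun b : Bool => if b = true then Z else W) = Z ∪ W := by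
    ext x
    simp only [Set.mem_iUnion, Bool.exists_bool, Set.mem_union]
    constructor
    · rintro (h | h)
      · exact Or.inr (by simpa using h)
      · exact Or.inl (by simpa using h)
    · rintro (h | h)
      · exact Or.inr (by simpa using h)
      · exact Or.inl (by simpa using h)
  rwa [e] at h

/-- Two finite type quasi-coherent modules with support proper over `S` are both killed by an ideal
sheaf whose closed subscheme is proper over `S`. -/
theorem exists_common_proper (M N : X.Modules) (hM : Coh.IsCoh M) (hN : Coh.IsCoh N)
    (hMs : ClSub.IsProperOver f (CohB1.support M)) (hNs : ClSub.IsProperOver f (CohB1.support N)) :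
    ∃ J : X.IdealSheafData, ClSub.KilledByIdeal J M ∧ ClSub.KilledByIdeal J N ∧
      IsProper (J.subschemeι ≫ f) := by
  let I₁ := FormalA.AnnIdeal.annIdeal M hM.1 hM.2
  let I₂ := FormalA.AnnIdeal.annIdeal N hN.1 hN.2
  refine ⟨I₁ * I₂, killed_of_le (mul_le_left _ _) (FormalA.AnnIdeal.killed_annIdeal M hM.1 hM.2),
    killed_of_le (mul_le_right _ _) (FormalA.AnnIdeal.killed_annIdeal N hN.1 hN.2), ?_⟩
  refine FormalA.ProperOver.isProper_closedImmersion f _ (isProperOver_union S f hMs hNs) _ ?_
  rw [Scheme.IdealSheafData.range_subschemeι, Scheme.IdealSheafData.support_mul]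
  change ((I₁.support : Set X) ∪ (I₂.support : Set X)) = _
  rw [FormalA.AnnIdeal.support_annIdeal, FormalA.AnnIdeal.support_annIdeal]

end Groth.Agent.Ega1.ProperSupp
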