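import Groth.Agent.FormalB.ModPow

/-!
Pullback of `O`-modules along a morphism of schemes over `Spec A` and the quotients `M / J M`:
`f^*` commutes with multiplication by `a : A` and preserves `IsModPow J`; full faithfulness of a
left adjoint on objects where the unit is an isomorphism; transport of maps of formal systems.
-/

set_option autoImplicit false
universe u

open CategoryTheory CategoryTheory.Limits AlgebraicGeometry Opposite
open Groth.Agent.FormalB.ModPow

namespace Groth.Agent.Ega1.PullFormal

section Adj

variable {C D : Type*} [Category C] [Category D] {L : C ⥤ D} {R : D ⥤ C} (adj : L ⊣ R)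

/-- `L` is faithful on maps into an object where the unit is mono. -/
theorem map_injective_of_mono {M N : C} [Mono (adj.unit.app N)] {f g : M ⟶ N}
    (h : L.map f = L.map g) : f = g := by
  rw [← cancel_mono (adj.unit.app N)]
  have h1 := adj.unit.naturality f
  have h2 := adj.unit.naturality g
  simp only [Functor.id_map, Functor.comp_map, Functor.id_obj, Functor.comp_obj] at h1 h2
  exact h1.trans ((congrArg (fun k => adj.unit.app M ≫ R.map k) h).trans h2.symm)

/-- `L` is full on maps into an object where the unit is an isomorphism. -/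
theorem exists_map_eq {M N : C} [IsIso (adj.unit.app N)] (g : L.obj M ⟶ L.obj N) :
    ∃ f : M ⟶ N, L.map f = g := by
  refine ⟨adj.unit.app M ≫ R.map g ≫ inv (adj.unit.app N), ?_⟩
  have h1 : IsIso (L.map (adj.unit.app N)) := inferInstance
  have h2 : L.map (adj.unit.app N) ≫ adj.counit.app (L.obj N) = 𝟙 _ :=
    adj.left_triangle_components N
  rw [← cancel_mono (L.map (adj.unit.app N))]
  have h3 : IsIso (adj.counit.app (L.obj N)) :=
    ⟨L.map (adj.unit.app N), by
      rw [← cancel_epi (L.map (adj.unit.app N)), reassoc_of% h2]; simp, h2⟩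
  rw [← cancel_mono (adj.counit.app (L.obj N))]
  simp only [Functor.map_comp, Category.assoc, Functor.map_inv, IsIso.inv_hom_id,
    Category.comp_id]
  rw [h2, Category.comp_id]
  rw [← Functor.map_comp_assoc]
  simp

end Adj

section Scheme

variable {X Z : Scheme.{u}} (f : Z ⟶ X)

theorem pushforward_smulModΓ (N : Z.Modules) (r : Coh.Γtop X) :
    (Scheme.Modules.pushforward f).map (Formal.smulModΓ N (f.appTop.hom r)) =
      Formal.smulModΓ ((Scheme.Modules.pushforward f).obj N) r := by
  apply Scheme.Modules.hom_ext
  intro U
  ext m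
  change resΓ Z (f ⁻¹ᵁ U) (f.appTop.hom r) • (show Γ(N, f ⁻¹ᵁ U) from m) =
    f.app U (resΓ X U r) • (show Γ(N, f ⁻¹ᵁ U) from m)
  congr 1
  exact (ConcreteCategory.congr_hom (f.naturality (homOfLE (le_top (a := U))).op) r).symm

/-- `f^*` commutes with multiplication by functions. -/
theorem pullback_smulModΓ (M : X.Modules) (r : Coh.Γtop X) :
    (Scheme.Modules.pullback f).map (Formal.smulModΓ M r) =
      Formal.smulModΓ ((Scheme.Modules.pullback f).obj M) (f.appTop.hom r) := by
  apply ((Scheme.Modules.pullbackPushforwardAdjunction f).homEquiv _ _).injective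
  rw [Adjunction.homEquiv_unit, Adjunction.homEquiv_unit, pushforward_smulModΓ]
  have h1 := (Scheme.Modules.pullbackPushforwardAdjunction f).unit.naturality (Formal.smulModΓ M r)
  refine h1.symm.trans ?_
  exact smulModΓ_naturality _ r

variable {A : Type u} [CommRing A] [X.Over (Spec (CommRingCat.of A))]
  [Z.Over (Spec (CommRingCat.of A))] [f.IsOver (Spec (CommRingCat.of A))]

theorem appTop_toGlobal (a : A) :
    f.appTop.hom (Coh.toGlobal (X ↘ Spec (CommRingCat.of A)) a) =
      Coh.toGlobal (Z ↘ Spec (CommRingCat.of A)) a := by
  have h : f ≫ (X ↘ Spec (CommRingCat.of A)) = Z ↘ Spec (CommRingCat.of A) := comp_over f _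
  rw [← h]
  unfold Coh.toGlobal
  rw [Scheme.Hom.comp_appTop]
  rfl

theorem pullback_smulMod (M : X.Modules) (a : A) :
    (Scheme.Modules.pullback f).map (Formal.smulMod A M a) =
      Formal.smulMod A ((Scheme.Modules.pullback f).obj M) a := by
  unfold Formal.smulMod
  rw [pullback_smulModΓ, appTop_toGlobal]

theorem pushforward_smulMod (N : Z.Modules) (a : A) :
    (Scheme.Modules.pushforward f).map (Formal.smulMod A N a) =
      Formal.smulMod A ((Scheme.Modules.pushforward f).obj N) a := by
  unfold Formal.smulMod
  rw [← appTop_toGlobal f, pushforward_smulModΓ]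

/-- `f^*` preserves the quotients `M / J M`. -/
theorem isModPow_pullback {J : Ideal A} {M N : X.Modules} {p : M ⟶ N} (hp : IsModPow J p) :
    IsModPow J ((Scheme.Modules.pullback f).map p) := by
  have := hp.epi
  let adj := Scheme.Modules.pullbackPushforwardAdjunction f
  refine ⟨inferInstance, fun a ha => ?_, ?_⟩
  · rw [← pullback_smulMod, ← Functor.map_comp, hp.smul_comp a ha, Functor.map_zero]
  · intro W φ hφ
    obtain ⟨ψ, hψ⟩ := hp.desc (adj.homEquiv _ _ φ) (fun a ha => by
      have h1 := hφ a ha
      rw [← pullback_smulMod] at h1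
      rw [← Adjunction.homEquiv_naturality_left, h1, Adjunction.homEquiv_unit, Functor.map_zero,
        comp_zero])
    refine ⟨(adj.homEquiv _ _).symm ψ, ?_⟩
    apply (adj.homEquiv _ _).injective
    rw [Adjunction.homEquiv_naturality_left, Equiv.apply_symm_apply, hψ]

/-- The pullback of the completion is the completion of the pullback. -/
noncomputable def completionPullbackIso (I : Ideal A) (M : X.Modules) :
    Formal.completion I ((Scheme.Modules.pullback f).obj M) ≅
      Formal.completion I M ⋙ Scheme.Modules.pullback f :=
  completionIso I (G := Formal.completion I M ⋙ Scheme.Modules.pullback f)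
    (fun n => (Scheme.Modules.pullback f).map (cπ I M n))
    (fun n => isModPow_pullback f (isModPow_cπ I M n))
    (fun n => by
      rw [Functor.comp_map, ← Functor.map_comp, cπ_map_succ])

@[reassoc (attr := simp)]
theorem cπ_completionPullbackIso_hom (I : Ideal A) (M : X.Modules) (n : ℕ) :
    cπ I ((Scheme.Modules.pullback f).obj M) n ≫ (completionPullbackIso f I M).hom.app (op n) =
      (Scheme.Modules.pullback f).map (cπ I M n) :=
  cπ_completionIso_hom I _ _ _ n

end Scheme

end Groth.Agent.Ega1.PullFormal
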