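import Groth.Agent.Ega1.ADualUniv
import Groth.Agent.LoccohB.DQCohTri
import Groth.Agent.LoccohB.RpushTri
import Groth.Agent.PerfB.OpenAdj
import Groth.Agent.PerfA.QCohD
import Groth.Agent.S0998

/-!
# Restriction of universal pairs to open subschemes, part 1

* `isIso_unit_of_orthogonal`: `L ⟶ Rj_* j^* L` is an isomorphism if `Hom(N, L) = 0` for every
  `N ∈ D_QCoh` with `j^* N = 0`;
* `Univ.restrict_push`: if `L` is universal for `(f, Rj_* M)` then `j'^* L` is universal for `(f', M)`
  (cartesian square `j' ≫ f = f' ≫ j` with `j`, `j'` open immersions).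
-/

set_option autoImplicit false

universe v v' u u₁ u₂

open CategoryTheory CategoryTheory.Limits Pretriangulated

namespace Groth.Agent.Ega1.ADualRestrict

section Abstract

variable {D : Type u₁} [Category.{v} D] [HasZeroObject D] [Preadditive D] [HasShift D ℤ]
  [∀ n : ℤ, (shiftFunctor D n).Additive] [Pretriangulated D]
  {D' : Type u₂} [Category.{v'} D'] [HasZeroObject D'] [Preadditive D'] [HasShift D' ℤ]
  [∀ n : ℤ, (shiftFunctor D' n).Additive] [Pretriangulated D']

/-- In a localization situation `F ⊣ G` with invertible counit, an object which is right orthogonal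
to the kernel of `F` (inside a triangulated subcategory `P`) is local. -/
theorem isIso_unit_of_orthogonal_aux {F : D ⥤ D'} {G : D' ⥤ D} (adj : F ⊣ G) [IsIso adj.counit]
    [F.CommShift ℤ] [F.IsTriangulated] (P : ObjectProperty D) [P.IsTriangulated]
    [P.IsClosedUnderIsomorphisms] (L : D) (hL : P L)
    (hR : P (G.obj (F.obj L)))
    (h : ∀ N : D, P N → IsZero (F.obj N) → ∀ φ : N ⟶ L, φ = 0) : IsIso (adj.unit.app L) := by
  obtain ⟨C, g, δ, hT⟩ := distinguished_cocone_triangle (adj.unit.app L)
  have hC : P C := P.ext_of_isTriangulatedClosed₃ _ hT hL hR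
  have hC0 : IsZero (F.obj C) := by
    have hT' := F.map_distinguished _ hT
    have h1 : IsIso (F.map (adj.unit.app L)) := by
      have h1 : IsIso (𝟙 (F.obj L)) := IsIso.id _
      exact IsIso.of_isIso_fac_right (adj.left_triangle_components L)
    exact (Triangle.isZero₃_iff_isIso₁ _ hT').2 h1
  have hCs : ∀ n : ℤ, P (C⟦n⟧) ∧ IsZero (F.obj (C⟦n⟧)) := fun n =>
    ⟨P.le_shift n _ hC, (((shiftFunctor _ n).map_isZero hC0)).of_iso ((F.commShiftIso n).app C)⟩
  have h0 : δ = 0 := by
    let e' := (shiftFunctorCompIsoId D (1 : ℤ) (-1) (by lia)).app L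
    have h1 : δ⟦(-1 : ℤ)⟧' ≫ e'.hom = 0 := h _ (hCs (-1)).1 (hCs (-1)).2 _
    have h2 : δ⟦(-1 : ℤ)⟧' = 0 := by
      rw [← cancel_mono e'.hom, h1, zero_comp]
    exact (shiftFunctor D (-1 : ℤ)).map_injective (h2.trans (Functor.map_zero _ _ _).symm)
  have hg : ∀ s : C ⟶ G.obj (F.obj L), s = 0 := by
    intro s
    apply (adj.homEquiv _ _).symm.injective
    exact hC0.eq_of_src _ _
  obtain ⟨s, hs⟩ : ∃ s : C ⟶ G.obj (F.obj L), 𝟙 C = s ≫ g :=
    Triangle.coyoneda_exact₃ _ hT (𝟙 C) (show 𝟙 C ≫ δ = 0 by rw [h0, comp_zero])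
  have hCz : IsZero C := by
    rw [IsZero.iff_id_eq_zero, hs, hg s, zero_comp]
  exact (Triangle.isZero₃_iff_isIso₁ _ hT).1 hCz

end Abstract

open AlgebraicGeometry

attribute [local instance] HasDerivedCategory.standard

open Groth.Agent.Dcoh.DerSch Groth.Agent.Ega1.ADualUniv Groth.Agent.LoccohB
open Groth.Agent.PerfA.Restrict (restrictD)
open Groth.Agent.PerfB.OpenAdj (openAdj)

variable {X Y U V : Scheme.{u}}

/-- `L ⟶ Rj_* j^* L` is an isomorphism if `L` is right orthogonal to the objects of `D_QCoh`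
supported away from `U`. -/
theorem isIso_unit_of_orthogonal (j : U ⟶ X) [IsOpenImmersion j] [QuasiCompact j] [DCoh.HasRpush j]
    (L : DCoh.D X) (hL : DCoh.IsQCohD L)
    (h : ∀ N : DCoh.D X, DCoh.IsQCohD N → IsZero ((restrictD j).obj N) → ∀ φ : N ⟶ L, φ = 0) :
    IsIso ((openAdj j).unit.app L) :=
  isIso_unit_of_orthogonal_aux (openAdj j) DCoh.IsQCohD L hL
    (S0998.result j _ (PerfA.QCohD.isQCohD_restrictD j hL)) h

section Square

variable {f : X ⟶ Y} {f' : U ⟶ V} {j' : U ⟶ X} {j : V ⟶ Y} [IsOpenImmersion j'] [IsOpenImmersion j]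
  [QuasiCompact j'] [DCoh.HasRpush f] [DCoh.HasRpush f'] [DCoh.HasRpush j]

/-- If `L` is universal for `(f, Rj_* M)` then `j'^* L` is universal for `(f', M)`. -/
theorem Univ.restrict_push (hp : IsPullback j' f' f j) {M : DCoh.D V} {L : DCoh.D X}
    (h : Univ f ((DCoh.Rpush j).obj M) L) : Univ f' M ((restrictD j').obj L) := by
  obtain ⟨τ, hτ⟩ := h
  obtain ⟨β⟩ := exists_rpushRestrictIso f f' j' j hp
  have : DCoh.HasRpush j' := hasRpush _
  -- `L` is `j'`-local
  have hu : IsIso ((openAdj j').unit.app L) := by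
    refine isIso_unit_of_orthogonal j' L hτ.qcoh (fun N hN hN0 φ => ?_)
    have h1 : IsZero ((restrictD j).obj ((DCoh.Rpush f).obj N)) := by
      refine IsZero.of_iso ?_ (β.app N)
      have : (DCoh.Rpush f').PreservesZeroMorphisms := by
        obtain ⟨_, _, -⟩ := RpushTri.exists_isTriangulated_Rpush f'
        infer_instance
      exact (DCoh.Rpush f').map_isZero hN0
    apply hτ.hom_ext hN
    apply ((openAdj j).homEquiv _ _).symm.injective
    exact h1.eq_of_src _ _
  -- the universal morphism
  let flat : ∀ N : DCoh.D X, ((DCoh.Rpush f).obj N ⟶ (DCoh.Rpush j).obj M) →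
      ((DCoh.Rpush f').obj ((restrictD j').obj N) ⟶ M) := fun N g =>
    β.inv.app N ≫ ((openAdj j).homEquiv _ _).symm g
  have hflat : ∀ N, Function.Bijective (flat N) := fun N =>
    ((β.app N).homFromEquiv (Z := M)).bijective.comp ((openAdj j).homEquiv _ _).symm.bijective
  refine ⟨flat L τ, PerfA.QCohD.isQCohD_restrictD j' hτ.qcoh, ?_⟩
  -- naturality
  have nat : ∀ (N : DCoh.D X) (u : N ⟶ L),
      (DCoh.Rpush f').map ((restrictD j').map u) ≫ flat L τ =
        flat N ((DCoh.Rpush f).map u ≫ τ) := by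
    intro N u
    dsimp only [flat]
    rw [Adjunction.homEquiv_naturality_left_symm]
    have := β.inv.naturality u
    dsimp only [Functor.comp_map] at this
    rw [reassoc_of% this]
  -- bijectivity for objects of the form `j'^* N`
  have key : ∀ N : DCoh.D X, DCoh.IsQCohD N →
      Function.Bijective (fun g : (restrictD j').obj N ⟶ (restrictD j').obj L =>
        (DCoh.Rpush f').map g ≫ flat L τ) := by
    intro N hN
    have h1 : Function.Bijective (fun u : N ⟶ L => (restrictD j').map u) := by
      have h2 : Function.Bijective (fun u : N ⟶ L => u ≫ (openAdj j').unit.app L) :=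
        ((asIso ((openAdj j').unit.app L)).homToEquiv (Z := N)).bijective
      have h3 := ((openAdj j').homEquiv N ((restrictD j').obj L)).symm.bijective
      convert h3.comp h2 using 1
      funext u
      simp only [Function.comp_apply]
      rw [Adjunction.homEquiv_naturality_left_symm]
      simp
    have h4 := (hflat N).comp (hτ.bij N hN)
    have h5 : (fun g : (restrictD j').obj N ⟶ (restrictD j').obj L =>
        (DCoh.Rpush f').map g ≫ flat L τ) ∘ (fun u : N ⟶ L => (restrictD j').map u) =
        (flat N) ∘ (fun g : N ⟶ L => (DCoh.Rpush f).map g ≫ τ) := by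
      funext u
      exact nat N u
    rw [← h5] at h4
    exact (Function.Bijective.of_comp_iff _ h1).1 h4
  intro N hN
  -- `N ≅ j'^* Rj'_* N`
  let N' := (DCoh.Rpush j').obj N
  have hN' : DCoh.IsQCohD N' := S0998.result j' _ hN
  let e : (restrictD j').obj N' ≅ N := asIso ((openAdj j').counit.app N)
  have h1 := key N' hN'
  have h2 : Function.Bijective (fun g : N ⟶ (restrictD j').obj L => e.hom ≫ g) :=
    (e.symm.homFromEquiv (Z := (restrictD j').obj L)).bijective
  have h3 : Function.Bijective (fun g : (DCoh.Rpush f').obj ((restrictD j').obj N') ⟶ M =>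
      (DCoh.Rpush f').map e.inv ≫ g) :=
    (((DCoh.Rpush f').mapIso e).homFromEquiv (Z := M)).bijective
  convert h3.comp (h1.comp h2) using 1
  funext g
  simp

end Square

end Groth.Agent.Ega1.ADualRestrict
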