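import Groth.Agent.Dcoh.DerSch

/-!
# Universal pairs for `Rf_*` on `D_QCoh`

`Univ f K L`: `L ∈ D_QCoh(O_X)` represents the functor `N ↦ Hom(Rf_* N, K)` on `D_QCoh(O_X)`
(a "local" form of the right adjoint of `Rf_*`).
* `Univ.unique`, `Univ.of_iso_left`, `Univ.of_iso_right`, `Univ.of_natural`, `Univ.shift`;
* `Univ.comp`: composition of morphisms;
* `univ_of_adj`: values of a right adjoint of `Rf_* : D_QCoh(X) ⥤ D_QCoh(Y)`.
-/

set_option autoImplicit false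

universe u

open CategoryTheory CategoryTheory.Limits AlgebraicGeometry Pretriangulated

attribute [local instance] HasDerivedCategory.standard

namespace Groth.Agent.Ega1.ADualUniv

open Groth.Agent.Dcoh.DerSch

variable {X Y Z : Scheme.{u}}

/-- `τ : Rf_* L ⟶ K` is universal among morphisms `Rf_* N ⟶ K`, `N ∈ D_QCoh(O_X)`. -/
structure IsUniv (f : X ⟶ Y) [DCoh.HasRpush f] (K : DCoh.D Y) (L : DCoh.D X)
    (τ : (DCoh.Rpush f).obj L ⟶ K) : Prop where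
  qcoh : DCoh.IsQCohD L
  bij : ∀ N : DCoh.D X, DCoh.IsQCohD N →
    Function.Bijective (fun g : N ⟶ L => (DCoh.Rpush f).map g ≫ τ)

/-- `L` represents `N ↦ Hom(Rf_* N, K)` on `D_QCoh(O_X)`. -/
def Univ (f : X ⟶ Y) [DCoh.HasRpush f] (K : DCoh.D Y) (L : DCoh.D X) : Prop :=
  ∃ τ : (DCoh.Rpush f).obj L ⟶ K, IsUniv f K L τ

variable {f : X ⟶ Y} [DCoh.HasRpush f] {K K' : DCoh.D Y} {L L' : DCoh.D X}

lemma IsUniv.exists_lift {τ : (DCoh.Rpush f).obj L ⟶ K} (h : IsUniv f K L τ) {N : DCoh.D X}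
    (hN : DCoh.IsQCohD N) (g : (DCoh.Rpush f).obj N ⟶ K) :
    ∃ φ : N ⟶ L, (DCoh.Rpush f).map φ ≫ τ = g := (h.bij N hN).2 g

lemma IsUniv.hom_ext {τ : (DCoh.Rpush f).obj L ⟶ K} (h : IsUniv f K L τ) {N : DCoh.D X}
    (hN : DCoh.IsQCohD N) {φ ψ : N ⟶ L}
    (e : (DCoh.Rpush f).map φ ≫ τ = (DCoh.Rpush f).map ψ ≫ τ) : φ = ψ := (h.bij N hN).1 e

/-- Two universal objects are isomorphic, compatibly with the universal morphisms. -/
lemma IsUniv.exists_iso {τ : (DCoh.Rpush f).obj L ⟶ K} {τ' : (DCoh.Rpush f).obj L' ⟶ K}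
    (h : IsUniv f K L τ) (h' : IsUniv f K L' τ') :
    ∃ e : L ≅ L', (DCoh.Rpush f).map e.hom ≫ τ' = τ ∧ (DCoh.Rpush f).map e.inv ≫ τ = τ' := by
  obtain ⟨φ, hφ⟩ := h'.exists_lift h.qcoh τ
  obtain ⟨ψ, hψ⟩ := h.exists_lift h'.qcoh τ'
  refine ⟨⟨φ, ψ, h.hom_ext h.qcoh ?_, h'.hom_ext h'.qcoh ?_⟩, hφ, hψ⟩
  · rw [Functor.map_comp, Category.assoc, hψ, hφ, CategoryTheory.Functor.map_id, Category.id_comp]
  · rw [Functor.map_comp, Category.assoc, hφ, hψ, CategoryTheory.Functor.map_id, Category.id_comp]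

lemma Univ.qcoh (h : Univ f K L) : DCoh.IsQCohD L := h.choose_spec.qcoh

lemma Univ.unique (h : Univ f K L) (h' : Univ f K L') : Nonempty (L ≅ L') := by
  obtain ⟨τ, h⟩ := h
  obtain ⟨τ', h'⟩ := h'
  obtain ⟨e, -⟩ := h.exists_iso h'
  exact ⟨e⟩

/-- A natural family of bijections gives a universal object. -/
lemma Univ.of_natural (hL : DCoh.IsQCohD L)
    (e : ∀ N : DCoh.D X, DCoh.IsQCohD N → ((N ⟶ L) → ((DCoh.Rpush f).obj N ⟶ K)))
    (he : ∀ N hN, Function.Bijective (e N hN))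
    (nat : ∀ (N N' : DCoh.D X) (hN : DCoh.IsQCohD N) (hN' : DCoh.IsQCohD N') (u : N' ⟶ N)
      (g : N ⟶ L), e N' hN' (u ≫ g) = (DCoh.Rpush f).map u ≫ e N hN g) : Univ f K L := by
  refine ⟨e L hL (𝟙 L), hL, fun N hN => ?_⟩
  have : (fun g : N ⟶ L => (DCoh.Rpush f).map g ≫ e L hL (𝟙 L)) = e N hN := by
    funext g
    rw [← nat L N hL hN g (𝟙 L), Category.comp_id]
  rw [this]
  exact he N hN

lemma IsUniv.of_iso {τ : (DCoh.Rpush f).obj L ⟶ K} (h : IsUniv f K L τ) (e : L ≅ L')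
    (e' : K ≅ K') (hL' : DCoh.IsQCohD L') :
    IsUniv f K' L' ((DCoh.Rpush f).map e.inv ≫ τ ≫ e'.hom) := by
  refine ⟨hL', fun N hN => ?_⟩
  have h1 : Function.Bijective (fun g : N ⟶ L' => g ≫ e.inv) :=
    (e.symm.homToEquiv (Z := N)).bijective
  have h2 := h.bij N hN
  have h3 : Function.Bijective (fun g : (DCoh.Rpush f).obj N ⟶ K => g ≫ e'.hom) :=
    (e'.homToEquiv (Z := (DCoh.Rpush f).obj N)).bijective
  convert h3.comp (h2.comp h1) using 1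
  funext g
  simp

lemma Univ.of_iso_left (h : Univ f K L) (e : L ≅ L') (hL' : DCoh.IsQCohD L') : Univ f K L' := by
  obtain ⟨τ, h⟩ := h
  exact ⟨_, h.of_iso e (Iso.refl _) hL'⟩

lemma Univ.of_iso_right (h : Univ f K L) (e : K ≅ K') : Univ f K' L := by
  obtain ⟨τ, h⟩ := h
  exact ⟨_, h.of_iso (Iso.refl _) e h.qcoh⟩

/-- Transport along an isomorphism of functors `Rf_* ≅ Rf'_*`. -/
lemma Univ.of_natIso {f' : X ⟶ Y} [DCoh.HasRpush f'] (θ : DCoh.Rpush f ≅ DCoh.Rpush f')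
    (h : Univ f K L) : Univ f' K L := by
  obtain ⟨τ, h⟩ := h
  refine ⟨θ.inv.app L ≫ τ, h.qcoh, fun N hN => ?_⟩
  have h2 := h.bij N hN
  have h3 : Function.Bijective (fun g : (DCoh.Rpush f).obj N ⟶ K => θ.inv.app N ≫ g) :=
    ((θ.app N).homFromEquiv (Z := K)).bijective
  convert h3.comp h2 using 1
  funext g
  simp

/-- Composition. -/
lemma Univ.comp {g : Y ⟶ Z} [DCoh.HasRpush g] {fg : X ⟶ Z} [DCoh.HasRpush fg]
    (θ : DCoh.Rpush fg ≅ DCoh.Rpush f ⋙ DCoh.Rpush g)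
    (hf : ∀ N : DCoh.D X, DCoh.IsQCohD N → DCoh.IsQCohD ((DCoh.Rpush f).obj N))
    {W : DCoh.D Z} (h₁ : Univ g W K) (h₂ : Univ f K L) : Univ fg W L := by
  obtain ⟨σ, h₁⟩ := h₁
  obtain ⟨τ, h₂⟩ := h₂
  refine ⟨θ.hom.app L ≫ (DCoh.Rpush g).map τ ≫ σ, h₂.qcoh, fun N hN => ?_⟩
  have e2 := h₂.bij N hN
  have e1 := h₁.bij _ (hf N hN)
  have e3 : Function.Bijective (fun g' : (DCoh.Rpush g).obj ((DCoh.Rpush f).obj N) ⟶ W =>
      θ.hom.app N ≫ g') := ((θ.app N).symm.homFromEquiv (Z := W)).bijective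
  convert e3.comp (e1.comp e2) using 1
  funext u
  have := θ.hom.naturality u
  simp only [Function.comp_apply, Functor.comp_map] at this ⊢
  rw [reassoc_of% this, Functor.map_comp, Category.assoc]

/-- The values of a right adjoint of `Rf_*` on `D_QCoh` are universal. -/
lemma isUniv_of_adj
    {h : ∀ K : DCoh.D X, DCoh.IsQCohD K → DCoh.IsQCohD ((DCoh.Rpush f).obj K)}
    {a : DCoh.DQCoh Y ⥤ DCoh.DQCoh X}
    (adj : (ObjectProperty.lift DCoh.IsQCohD (ObjectProperty.ι DCoh.IsQCohD ⋙ DCoh.Rpush f)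
      (fun K => h K.obj K.property)) ⊣ a) (W : DCoh.DQCoh Y) :
    IsUniv f W.obj (a.obj W).obj (adj.counit.app W).hom := by
  refine ⟨(a.obj W).property, fun N hN => ?_⟩
  let N' : DCoh.DQCoh X := ⟨N, hN⟩
  have h1 : Function.Bijective (fun g : N ⟶ (a.obj W).obj =>
      (ObjectProperty.homMk g : N' ⟶ a.obj W)) :=
    ⟨fun g g' e => congrArg InducedCategory.Hom.hom e, fun g => ⟨g.hom, rfl⟩⟩
  have h2 := (adj.homEquiv N' W).symm.bijective
  have h3 : Function.Bijective (fun g : (ObjectProperty.lift DCoh.IsQCohD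
      (ObjectProperty.ι DCoh.IsQCohD ⋙ DCoh.Rpush f)
      (fun K => h K.obj K.property)).obj N' ⟶ W => g.hom) :=
    ⟨fun g g' e => InducedCategory.hom_ext e, fun g => ⟨ObjectProperty.homMk g, rfl⟩⟩
  convert h3.comp (h2.comp h1) using 1
  funext g
  simp only [Function.comp_apply, Adjunction.homEquiv_counit]
  rfl

lemma univ_of_adj
    {h : ∀ K : DCoh.D X, DCoh.IsQCohD K → DCoh.IsQCohD ((DCoh.Rpush f).obj K)}
    {a : DCoh.DQCoh Y ⥤ DCoh.DQCoh X}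
    (adj : (ObjectProperty.lift DCoh.IsQCohD (ObjectProperty.ι DCoh.IsQCohD ⋙ DCoh.Rpush f)
      (fun K => h K.obj K.property)) ⊣ a) (W : DCoh.DQCoh Y) :
    Univ f W.obj (a.obj W).obj := ⟨_, isUniv_of_adj adj W⟩

end Groth.Agent.Ega1.ADualUniv
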