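import Groth.Agent.Ega1.IdealGen
import Groth.Agent.Divis.BlowChart2

/-!
# The exceptional ideal of a blow-up is ample over affine opens of the base

* `exists_section`: `a ∈ J(U)` gives a section of the exceptional ideal over `b⁻¹ U` generating exactly on the chart.
* `isAmple_restrict`: the exceptional ideal of the blow-up `b` is ample on `b⁻¹ U`, `U` affine.
-/

set_option autoImplicit false
universe u

open CategoryTheory CategoryTheory.Limits AlgebraicGeometry Opposite TopologicalSpace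

namespace Groth.Agent.Ega1.AmpFamBlow

open Groth.Agent.Fdesc.LocGen Groth.Agent.PerfA.IdealModule Groth.Agent.Divis.EffCartier
open Groth.Agent.Ega1.IdealGen Groth.Agent.Divis.BlowChart2

variable {X X' : Scheme.{u}} {J : X.IdealSheafData} {b : X' ⟶ X}

theorem ores_app (b : X' ⟶ X) {U : X.Opens} {A : X'.Opens} (h : A ≤ b ⁻¹ᵁ U) (a : Γ(X, U)) :
    ores h (b.app U a) = b.appLE U A h a := rfl

theorem exists_section (hb : BlowUp.IsBlowUp b J) (U : X.affineOpens) {a : Γ(X, U.1)}
    (ha : a ∈ J.ideal U) :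
    ∃ t : Γ(ClSub.idealMod (J.comap b), b ⁻¹ᵁ U.1),
      ∀ (V : X'.Opens) (h : V ≤ b ⁻¹ᵁ U.1), IsGen (res _ h t) ↔ V ≤ chart b J U a := by
  obtain ⟨t, ht⟩ := exists_val_eq_of_forall (J.comap b) (V := b ⁻¹ᵁ U.1) (b.app U.1 a) (by
    intro A h
    rw [ores_app, Groth.Agent.Divis.IdealComap.ideal_comap J b U A h]
    exact Ideal.mem_map_of_mem _ ha)
  refine ⟨t, fun V h => ⟨fun hV x hx => ?_, fun hV => ?_⟩⟩
  · obtain ⟨A, hxA, hA⟩ := exists_affine hx
    have h1 := hV.res hA
    rw [res_res] at h1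
    have h2 := span_of_isGen _ h1
    rw [val_res', ht, ores_app] at h2
    exact le_chart b J U a A (hA.trans h) h2 hxA
  · have hC := isAffineOpen_chart b J U hb ha
    have h1 : IsGen (res _ (chart_le b J U a) t) := by
      refine isGen_of_span (J.comap b) (A := ⟨_, hC⟩) ?_ ?_
      · rw [val_res', ht, ores_app]
        exact ideal_chart b J U a hC
      · rw [val_res', ht, ores_app]
        exact appLE_chart_mem_nonZeroDivisors b J U hb ha
    have h2 := h1.res hV
    rwa [res_res] at h2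

theorem isInvertible_restrict {A : Scheme.{u}} (j : A ⟶ X) [IsOpenImmersion j] {L : X.Modules}
    (hL : PicF.IsInvertible L) : PicF.IsInvertible (L.restrict j) := by
  rw [isInvertible_iff] at hL ⊢
  intro a
  obtain ⟨W, e, haW, he⟩ := hL (j a)
  exact ⟨j ⁻¹ᵁ W, toRestrict j (res L (j.image_preimage_le W) e), haW,
    (isGen_toRestrict_iff j _).mpr (he.res _)⟩

theorem isAmple_restrict (hb : BlowUp.IsBlowUp b J) [QuasiCompact b] (U : X.affineOpens)
    (V : X'.Opens) (hV : V = b ⁻¹ᵁ U.1) :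
    CohB1.IsAmple ((ClSub.idealMod (J.comap b)).restrict V.ι) := by
  subst hV
  have hinv := isInvertible_restrict (b ⁻¹ᵁ U.1).ι (isInvertible_idealMod (J.comap b) hb.1)
  refine ⟨hinv, ?_, ?_⟩
  · exact isCompact_iff_compactSpace.mp (b.isCompact_preimage U.2.isCompact)
  · intro x
    obtain ⟨a, ha, hxa⟩ := exists_mem_chart_of_span b J U hb.1 (s := (J.ideal U : Set Γ(X, U.1)))
      (Ideal.span_eq _).symm x.1 x.2
    obtain ⟨t, ht⟩ := exists_section hb U ha
    let s : Coh.structureModule (b ⁻¹ᵁ U.1).toScheme ⟶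
        (ClSub.idealMod (J.comap b)).restrict (b ⁻¹ᵁ U.1).ι :=
      homOf (toRestrict (b ⁻¹ᵁ U.1).ι (res _ ((b ⁻¹ᵁ U.1).ι_image_le ⊤) t))
    have hs : CohB1.genLocus _ s = (b ⁻¹ᵁ U.1).ι ⁻¹ᵁ chart b J U a := by
      have key : ∀ W : (b ⁻¹ᵁ U.1).toScheme.Opens, W ≤ CohB1.genLocus _ s ↔
          (b ⁻¹ᵁ U.1).ι ''ᵁ W ≤ chart b J U a := by
        intro W
        rw [le_genLocus_iff, sec_homOf, res_toRestrict, isGen_toRestrict_iff, res_res]
        exact ht _ _
      apply le_antisymm
      · intro x hx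
        exact (key _).mp le_rfl ⟨x, hx, rfl⟩
      · exact (key _).mpr ((b ⁻¹ᵁ U.1).ι.image_preimage_le _)
    refine ⟨0, powHom s 1, ?_, ?_⟩
    · rw [genLocus_powHom hinv s 0, hs]
      exact hxa
    · rw [genLocus_powHom hinv s 0, hs]
      exact (isAffineOpen_chart b J U hb ha).preimage_of_isOpenImmersion _
        (by rw [Scheme.Opens.opensRange_ι]; exact chart_le b J U a)

end Groth.Agent.Ega1.AmpFamBlow
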