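import Mathlib.AlgebraicGeometry.ResidueField
import Mathlib.AlgebraicGeometry.Morphisms.ClosedImmersion
import Mathlib.AlgebraicGeometry.Morphisms.Finite
import Mathlib.AlgebraicGeometry.Morphisms.Proper
import Mathlib.AlgebraicGeometry.Morphisms.FinitePresentation
import Mathlib.AlgebraicGeometry.Limits

/-!
# Points lifting with trivial residue field extension

* `CD f x`: there is a point `y` over `x` with `κ(x) → κ(y)` bijective.
* `cd_iff_exists_lift`: iff `Spec κ(x) ⟶ X` lifts along `f`.
* composition, base change, closed immersions, restriction, binary coproducts.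
* `isProper_coprodDesc`, `locallyOfFinitePresentation_coprodDesc`.
-/

set_option autoImplicit false
universe u

open CategoryTheory CategoryTheory.Limits AlgebraicGeometry

namespace Groth.Agent.Ega1.CDLift

variable {X Y Z : Scheme.{u}}

/-- `x` is the image of a point with trivial residue field extension. -/
def CD (f : Y ⟶ X) (x : X) : Prop :=
  ∃ y : Y, f y = x ∧ Function.Bijective (f.residueFieldMap y)

theorem cd_of_lift {f : Y ⟶ X} {x : X} {t : Spec (X.residueField x) ⟶ Y}
    (ht : t ≫ f = X.fromSpecResidueField x) : CD f x := by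
  let s : Spec (X.residueField x) := IsLocalRing.closedPoint _
  have hs : f (t s) = x := by
    rw [← Scheme.Hom.comp_apply, ht, Scheme.fromSpecResidueField_apply]
  refine ⟨t s, hs, ?_⟩
  have h1 : (t ≫ f).residueFieldMap s = f.residueFieldMap (t s) ≫ t.residueFieldMap s :=
    Scheme.residueFieldMap_comp t f s
  have h2 : Function.Surjective ((t ≫ f).residueFieldMap s) := by
    have h3 : Function.Surjective ((X.fromSpecResidueField x).residueFieldMap s) := by
      have h4 : Function.Surjective ((X.fromSpecResidueField x).stalkMap s) :=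
        (X.fromSpecResidueField x).stalkMap_surjective s
      have h5 := Scheme.residue_residueFieldMap (X.fromSpecResidueField x) s
      intro a
      obtain ⟨b, rfl⟩ := (Spec (X.residueField x)).residue_surjective s a
      obtain ⟨c, rfl⟩ := h4 b
      exact ⟨X.residue _ c, congr(($h5).hom c)⟩
    rw [Scheme.Hom.residueFieldMap_congr ht]
    exact h3.comp (ConcreteCategory.bijective_of_isIso (X.residueFieldCongr _).hom).2
  rw [h1] at h2
  refine ⟨(f.residueFieldMap (t s)).hom.injective, fun a => ?_⟩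
  obtain ⟨b, hb⟩ := h2 (t.residueFieldMap s a)
  exact ⟨b, (t.residueFieldMap s).hom.injective hb⟩

theorem exists_lift {f : Y ⟶ X} {x : X} (h : CD f x) :
    ∃ t : Spec (X.residueField x) ⟶ Y, t ≫ f = X.fromSpecResidueField x := by
  obtain ⟨y, rfl, hy⟩ := h
  have hiso : IsIso (f.residueFieldMap y) := (ConcreteCategory.isIso_iff_bijective _).mpr hy
  refine ⟨Spec.map (inv (f.residueFieldMap y)) ≫ Y.fromSpecResidueField y, ?_⟩
  rw [Category.assoc, ← Scheme.Hom.SpecMap_residueFieldMap_fromSpecResidueField, ← Category.assoc,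
    ← Spec.map_comp, IsIso.hom_inv_id, Spec.map_id, Category.id_comp]

theorem cd_iff_exists_lift {f : Y ⟶ X} {x : X} :
    CD f x ↔ ∃ t : Spec (X.residueField x) ⟶ Y, t ≫ f = X.fromSpecResidueField x :=
  ⟨exists_lift, fun ⟨_, ht⟩ => cd_of_lift ht⟩

theorem CD.comp {f : Y ⟶ X} {g : Z ⟶ Y} {x : X} (y : Y) (hy : f y = x)
    (hb : Function.Bijective (f.residueFieldMap y)) (h : CD g y) : CD (g ≫ f) x := by
  obtain ⟨z, rfl, hz⟩ := h
  refine ⟨z, by simpa using hy, ?_⟩
  rw [Scheme.residueFieldMap_comp]
  exact hz.comp hb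

theorem cd_of_comp {f : Y ⟶ X} {g : Z ⟶ Y} {h : Z ⟶ X} (w : g ≫ f = h) {x : X} (hh : CD h x) :
    CD f x := by
  obtain ⟨t, ht⟩ := exists_lift hh
  exact cd_of_lift (t := t ≫ g) (by rw [Category.assoc, w, ht])

theorem cd_of_isPullback {X' Y' : Scheme.{u}} {f : Y ⟶ X} {g : X' ⟶ X} {f' : Y' ⟶ X'} {g' : Y' ⟶ Y}
    (sq : IsPullback g' f' f g) {x : X'} (h : CD f (g x)) : CD f' x := by
  obtain ⟨t, ht⟩ := exists_lift h
  refine cd_of_lift (t := sq.lift (Spec.map (g.residueFieldMap x) ≫ t)
    (X'.fromSpecResidueField x) ?_) (sq.lift_snd _ _ _)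
  rw [Category.assoc, ht, Scheme.Hom.SpecMap_residueFieldMap_fromSpecResidueField]

theorem cd_of_isClosedImmersion (f : Y ⟶ X) [IsClosedImmersion f] {x : X} (hx : x ∈ Set.range f) :
    CD f x := by
  obtain ⟨y, rfl⟩ := hx
  refine ⟨y, rfl, (f.residueFieldMap y).hom.injective, fun a => ?_⟩
  obtain ⟨b, rfl⟩ := Y.residue_surjective y a
  obtain ⟨c, rfl⟩ := f.stalkMap_surjective y b
  exact ⟨X.residue _ c, congr(($(Scheme.residue_residueFieldMap f y)).hom c)⟩

theorem cd_of_isIso_restrict (f : Y ⟶ X) (U : X.Opens) [IsIso (f ∣_ U)] {x : X} (hx : x ∈ U) :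
    CD f x := by
  refine cd_of_comp (g := inv (f ∣_ U) ≫ (f ⁻¹ᵁ U).ι) (h := U.ι) ?_ ?_
  · rw [Category.assoc, ← morphismRestrict_ι, IsIso.inv_hom_id_assoc]
  · exact ⟨⟨x, hx⟩, rfl, ConcreteCategory.bijective_of_isIso _⟩

theorem cd_coprodDesc_left (f : Y ⟶ X) (g : Z ⟶ X) {x : X} (h : CD f x) : CD (coprod.desc f g) x :=
  cd_of_comp (g := coprod.inl) (coprod.inl_desc f g) h

theorem cd_coprodDesc_right (f : Y ⟶ X) (g : Z ⟶ X) {x : X} (h : CD g x) : CD (coprod.desc f g) x :=
  cd_of_comp (g := coprod.inr) (coprod.inr_desc f g) h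

theorem isProper_coprodMap {Y' Z' : Scheme.{u}} (f : Y ⟶ Y') (g : Z ⟶ Z') [IsProper f] [IsProper g] :
    IsProper (coprod.map f g) := by
  rw [IsZariskiLocalAtTarget.iff_of_openCover (P := @IsProper) (coprodOpenCover.{u, 0} Y' Z')]
  rintro (_ | _)
  · have h1 := (isPullback_inl_inl_coprodMap f g).flip
    have h2 : IsPullback (pullback.fst (coprod.map f g) coprod.inl)
      (pullback.snd (coprod.map f g) coprod.inl) (coprod.map f g) coprod.inl := IsPullback.of_hasPullback _ _
    have h3 : pullback.snd (coprod.map f g) coprod.inl = (h1.isoIsPullback _ _ h2).inv ≫ f := by simp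
    change IsProper (pullback.snd (coprod.map f g) coprod.inl)
    rw [h3]
    infer_instance
  · have h1 := (isPullback_inr_inr_coprodMap f g).flip
    have h2 : IsPullback (pullback.fst (coprod.map f g) coprod.inr)
      (pullback.snd (coprod.map f g) coprod.inr) (coprod.map f g) coprod.inr := IsPullback.of_hasPullback _ _
    have h3 : pullback.snd (coprod.map f g) coprod.inr = (h1.isoIsPullback _ _ h2).inv ≫ g := by simp
    change IsProper (pullback.snd (coprod.map f g) coprod.inr)
    rw [h3]
    infer_instance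

theorem isProper_coprodDesc (f : Y ⟶ X) (g : Z ⟶ X) [IsProper f] [IsProper g] :
    IsProper (coprod.desc f g) := by
  have h1 : coprod.desc f g = coprod.map f g ≫ coprod.desc (𝟙 X) (𝟙 X) := by simp
  have := isProper_coprodMap f g
  have : IsFinite (coprod.desc (𝟙 X) (𝟙 X)) := inferInstance
  rw [h1]
  infer_instance

theorem locallyOfFinitePresentation_coprodDesc (f : Y ⟶ X) (g : Z ⟶ X)
    [LocallyOfFinitePresentation f] [LocallyOfFinitePresentation g] :
    LocallyOfFinitePresentation (coprod.desc f g) := by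
  rw [IsZariskiLocalAtSource.iff_of_openCover (P := @LocallyOfFinitePresentation) (coprodOpenCover.{u, 0} Y Z)]
  rintro (_ | _)
  · change LocallyOfFinitePresentation (coprod.inl ≫ coprod.desc f g)
    rw [coprod.inl_desc]; assumption
  · change LocallyOfFinitePresentation (coprod.inr ≫ coprod.desc f g)
    rw [coprod.inr_desc]; assumption

end Groth.Agent.Ega1.CDLift
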