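import Groth.Agent.Ega1.AmpFam
import Groth.Agent.Ega1.AmpFamBlow
import Groth.Agent.Ega1.CDLift
import Groth.Agent.Flat2H.CartierAmple
import Groth.Agent.Flat2C.BlowProper
import Mathlib.AlgebraicGeometry.Noetherian

/-!
# Completely decomposed proper covers with an ample family: the Noetherian case
-/

set_option autoImplicit false
universe u

open CategoryTheory CategoryTheory.Limits AlgebraicGeometry Opposite TopologicalSpace

namespace Groth.Agent.Ega1.AmpFamNoeth

open Groth.Agent.Ega1.CDLift Groth.Agent.Ega1.AmpFam Groth.Agent.Ega1.AmpFamBlow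

variable {X : Scheme.{u}}

/-- `Z` is covered. -/
def Cov (Z : Set X) : Prop :=
  ∃ (Y : Scheme.{u}) (f : Y ⟶ X), IsProper f ∧ LocallyOfFinitePresentation f ∧
    (∀ x ∈ Z, CD f x) ∧ MoreMor.HasAmpleFamily Y

theorem Cov.union {Z₁ Z₂ : Set X} (h₁ : Cov Z₁) (h₂ : Cov Z₂) : Cov (Z₁ ∪ Z₂) := by
  obtain ⟨Y₁, f₁, hp₁, hl₁, hc₁, ha₁⟩ := h₁
  obtain ⟨Y₂, f₂, hp₂, hl₂, hc₂, ha₂⟩ := h₂
  refine ⟨Y₁ ⨿ Y₂, coprod.desc f₁ f₂, isProper_coprodDesc f₁ f₂,
    locallyOfFinitePresentation_coprodDesc f₁ f₂, ?_, hasAmpleFamily_coprod ha₁ ha₂⟩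
  rintro x (hx | hx)
  · exact cd_coprodDesc_left f₁ f₂ (hc₁ x hx)
  · exact cd_coprodDesc_right f₁ f₂ (hc₂ x hx)

theorem Cov.mono {Z₁ Z₂ : Set X} (h : Z₁ ⊆ Z₂) (h₂ : Cov Z₂) : Cov Z₁ := by
  obtain ⟨Y₂, f₂, hp₂, hl₂, hc₂, ha₂⟩ := h₂
  exact ⟨Y₂, f₂, hp₂, hl₂, fun x hx => hc₂ x (h hx), ha₂⟩

theorem Cov.push [IsLocallyNoetherian X] {W : Scheme.{u}} (i : W ⟶ X) [IsClosedImmersion i] {Z : Set W}
    (h : Cov Z) : Cov (i '' Z) := by
  obtain ⟨Y, f, hp, hl, hc, ha⟩ := h
  have : LocallyOfFinitePresentation i := LocallyOfFinitePresentation.iff_locallyOfFiniteType.mpr inferInstance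
  refine ⟨Y, f ≫ i, inferInstance, inferInstance, ?_, ha⟩
  rintro _ ⟨w, hw, rfl⟩
  obtain ⟨y, hy, hb⟩ := cd_of_isClosedImmersion i (x := i w) ⟨w, rfl⟩
  obtain rfl : y = w := i.injective hy
  exact CD.comp y rfl hb (hc y hw)

theorem cov_empty [IsLocallyNoetherian X] : Cov (∅ : Set X) := by
  refine ⟨(⊤ : X.IdealSheafData).subscheme, (⊤ : X.IdealSheafData).subschemeι, inferInstance,
    LocallyOfFinitePresentation.iff_locallyOfFiniteType.mpr inferInstance, fun x hx => hx.elim,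
    inferInstance, fun y => isEmptyElim y⟩

theorem mem_support_prod {ι : Type*} (s : Finset ι) (I : ι → X.IdealSheafData) (x : X) :
    x ∈ (∏ i ∈ s, I i).support ↔ ∃ i ∈ s, x ∈ (I i).support := by
  classical
  induction s using Finset.induction_on with
  | empty =>
    simp only [Finset.prod_empty, Scheme.IdealSheafData.one_eq_top,
      Scheme.IdealSheafData.support_top, Finset.notMem_empty, false_and, exists_false, iff_false]
    exact Set.notMem_empty x
  | insert a s ha ih =>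
    rw [Finset.prod_insert ha, Scheme.IdealSheafData.support_mul, ← SetLike.mem_coe,
      TopologicalSpace.Closeds.coe_sup, Set.mem_union, SetLike.mem_coe, SetLike.mem_coe, ih]
    simp

theorem exists_affine_family [CompactSpace X] : ∃ (m : ℕ) (U : Fin m → X.affineOpens),
    (∀ i, ((U i).1 : Set X).Nonempty) ∧ ∀ x : X, ∃ i, x ∈ (U i).1 := by
  classical
  obtain ⟨T, hT, hTcov⟩ := (isCompact_iff_finite_and_eq_biUnion_affineOpens
    (U := (⊤ : X.Opens))).mp isCompact_univ
  let T' : Set X.affineOpens := {U ∈ T | (U.1 : Set X).Nonempty}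
  have hT' : T'.Finite := hT.subset fun U hU => hU.1
  have := hT'.to_subtype
  obtain ⟨m, ⟨e⟩⟩ := Finite.exists_equiv_fin T'
  refine ⟨m, fun i => (e.symm i).1, fun i => (e.symm i).2.2, fun x => ?_⟩
  have hx : x ∈ (⊤ : X.Opens) := trivial
  rw [hTcov] at hx
  simp only [TopologicalSpace.Opens.mem_iSup] at hx
  obtain ⟨U, hU, hxU⟩ := hx
  exact ⟨e ⟨U, hU, x, hxU⟩, by simpa using hxU⟩

/-- The irreducible case. -/
theorem exists_cov_open [IsLocallyNoetherian X] [CompactSpace X] [IrreducibleSpace X] :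
    ∃ V : X.Opens, (V : Set X).Nonempty ∧ Cov (V : Set X) := by
  obtain ⟨m, U, hne, hcov⟩ := exists_affine_family (X := X)
  let I : Fin m → X.IdealSheafData := fun i =>
    Scheme.IdealSheafData.vanishingIdeal ⟨((U i).1 : Set X)ᶜ, (U i).1.isOpen.isClosed_compl⟩
  have hI : ∀ i x, x ∈ (I i).support ↔ x ∉ (U i).1 := by
    intro i x
    rw [← SetLike.mem_coe, Scheme.IdealSheafData.coe_support_vanishingIdeal]
    rfl
  let J : X.IdealSheafData := ∏ i, I i
  have hJ : ∀ x, x ∈ J.support ↔ ∃ i, x ∉ (U i).1 := by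
    intro x
    simp only [J, mem_support_prod, Finset.mem_univ, true_and, hI]
  obtain ⟨Y, b, hb⟩ := Groth.Agent.Flat2C.BlowExist.exists_isBlowUp J
  have hJft : BlowUp.IsFiniteTypeIdeal J := by
    intro A
    have := IsLocallyNoetherian.component_noetherian A
    exact IsNoetherian.noetherian _
  have hbp := Groth.Agent.Flat2C.BlowProper.isProper_of_isBlowUp hb hJft
  have hbl : LocallyOfFinitePresentation b :=
    LocallyOfFinitePresentation.iff_locallyOfFiniteType.mpr inferInstance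
  refine ⟨J.support.compl, ?_, Y, b, hbp, hbl, ?_, ?_⟩
  · classical
    have h1 := (isIrreducible_iff_sInter (s := (Set.univ : Set X))).mp
      (IrreducibleSpace.isIrreducible_univ X) (Finset.univ.image fun i => ((U i).1 : Set X))
      (by
        intro u hu
        obtain ⟨i, -, rfl⟩ := Finset.mem_image.mp hu
        exact (U i).1.isOpen)
      (by
        intro u hu
        obtain ⟨i, -, rfl⟩ := Finset.mem_image.mp hu
        rw [Set.univ_inter]
        exact hne i)
    obtain ⟨x, -, hx⟩ := h1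
    refine ⟨x, fun hx' => ?_⟩
    obtain ⟨i, hi⟩ := (hJ x).mp hx'
    exact hi (Set.mem_sInter.mp hx _ (by simp))
  · intro x hx
    have := Groth.Agent.Divis.BlowUpFormal.isIso_morphismRestrict_compl_support hb J.support.compl
      disjoint_compl_left
    exact cd_of_isIso_restrict b J.support.compl hx
  · have hsupp : ∀ i (y : Y), y ∈ ((I i).comap b).support ↔ b y ∉ (U i).1 := by
      intro i y
      rw [← hI, Scheme.IdealSheafData.support_comap]
      rfl
    refine Groth.Agent.Flat2H.CartierAmple.hasAmpleFamily (fun i => (I i).comap b) ?_ ?_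
      (fun _ => ClSub.idealMod (J.comap b)) ?_ ?_
    · intro i
      obtain ⟨K, hK⟩ := Finset.dvd_prod_of_mem I (Finset.mem_univ i)
      have h1 := hb.1
      have h2 : J = I i * K := hK
      rw [h2, Groth.Agent.Divis.IdealComap.comap_mul] at h1
      exact Groth.Agent.Divis.BlowUpFormal.isEff_of_mul h1
    · rw [Set.eq_empty_iff_forall_notMem]
      intro y hy
      obtain ⟨i, hi⟩ := hcov (b y)
      rw [Set.mem_iInter] at hy
      exact (hsupp i y).mp (hy i) hi
    · intro i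
      exact Groth.Agent.Ega1.IdealGen.isInvertible_idealMod _ hb.1
    · intro i
      refine isAmple_restrict hb (U i) _ ?_
      ext y
      change y ∉ ((I i).comap b).support ↔ b y ∈ (U i).1
      rw [hsupp, not_not]

theorem cov_closeds [IsNoetherian X] (Z : Closeds X) : Cov (Z : Set X) := by
  apply wellFounded_lt.induction Z
  clear Z
  intro Z H
  rcases eq_or_ne Z ⊥ with rfl | h₀
  · exact cov_empty
  by_cases h₁ : IsPreirreducible (Z : Set X)
  · let i := (Scheme.IdealSheafData.vanishingIdeal Z).subschemeι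
    have hi : Set.range i = Z := by
      rw [Scheme.IdealSheafData.range_subschemeι, Scheme.IdealSheafData.coe_support_vanishingIdeal]
    have hirr : IsIrreducible (Set.range i) := by
      rw [hi]; exact ⟨Closeds.coe_nonempty.2 h₀, h₁⟩
    have h2 : IrreducibleSpace (Scheme.IdealSheafData.vanishingIdeal Z).subscheme := by
      have h3 : IsIrreducible (Set.univ : Set (Scheme.IdealSheafData.vanishingIdeal Z).subscheme) := by
        refine ⟨?_, ?_⟩
        · obtain ⟨_, y, rfl⟩ := hirr.1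
          exact ⟨y, trivial⟩
        · rintro U₁ U₂ hU₁ hU₂ ⟨y₁, -, hy₁⟩ ⟨y₂, -, hy₂⟩
          obtain ⟨O₁, hO₁, rfl⟩ := i.isClosedEmbedding.isInducing.isOpen_iff.mp hU₁
          obtain ⟨O₂, hO₂, rfl⟩ := i.isClosedEmbedding.isInducing.isOpen_iff.mp hU₂
          obtain ⟨_, ⟨y, rfl⟩, hy⟩ := hirr.2 O₁ O₂ hO₁ hO₂ ⟨_, ⟨y₁, rfl⟩, hy₁⟩ ⟨_, ⟨y₂, rfl⟩, hy₂⟩
          exact ⟨y, trivial, hy⟩
      exact (irreducibleSpace_def _).mpr h3
    have h3 : CompactSpace (Scheme.IdealSheafData.vanishingIdeal Z).subscheme :=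
      QuasiCompact.compactSpace_of_compactSpace i
    have h4 : IsLocallyNoetherian (Scheme.IdealSheafData.vanishingIdeal Z).subscheme :=
      LocallyOfFiniteType.isLocallyNoetherian i
    obtain ⟨V, ⟨w, hw⟩, hV⟩ := exists_cov_open (X := (Scheme.IdealSheafData.vanishingIdeal Z).subscheme)
    have h5 : IsClosed (i '' (V : Set _)ᶜ) := i.isClosedEmbedding.isClosedMap _ V.isOpen.isClosed_compl
    have h6 : (⟨i '' (V : Set _)ᶜ, h5⟩ : Closeds X) < Z := by
      refine lt_of_le_of_ne ?_ ?_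
      · rintro _ ⟨y, -, rfl⟩
        exact hi.le ⟨y, rfl⟩
      · intro h
        have h7 : i w ∈ (⟨i '' (V : Set _)ᶜ, h5⟩ : Closeds X) := h.ge (hi.le ⟨w, rfl⟩)
        obtain ⟨w', hw', hww'⟩ := h7
        exact hw' (i.injective hww' ▸ hw)
    refine Cov.mono ?_ ((H _ h6).union (hV.push i))
    intro x hx
    obtain ⟨y, rfl⟩ := hi.ge hx
    by_cases hy : y ∈ V
    · exact Or.inr ⟨y, hy, rfl⟩
    · exact Or.inl ⟨y, hy, rfl⟩
  · simp only [isPreirreducible_iff_isClosed_union_isClosed, not_forall, not_or] at h₁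
    obtain ⟨z₁, z₂, hz₁, hz₂, h, hz₁', hz₂'⟩ := h₁
    lift z₁ to Closeds X using hz₁
    lift z₂ to Closeds X using hz₂
    refine Cov.mono ?_ ((H (Z ⊓ z₁) (inf_lt_left.2 hz₁')).union (H (Z ⊓ z₂) (inf_lt_left.2 hz₂')))
    intro x hx
    rcases h hx with h | h
    · exact Or.inl ⟨hx, h⟩
    · exact Or.inr ⟨hx, h⟩

theorem cov_univ [IsNoetherian X] : Cov (Set.univ : Set X) := by
  simpa using cov_closeds (⊤ : Closeds X)

end Groth.Agent.Ega1.AmpFamNoeth
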