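import Groth.Prelude.Def_DualSch
import Groth.Agent.PerfA.CohExtGlue
import Groth.Agent.LoccohB.AdAffine
import Groth.Agent.LoccohB.HomBC2

/-!
# Dualizing complexes on Noetherian schemes: coherence and uniform bounds

* `isCohD_of_isDualizingSch`;
* `exists_uniform`: on a quasi-compact scheme the local dualizing complexes have a uniform injective
  amplitude, and the complex is bounded below.
-/

set_option autoImplicit false

universe u

open CategoryTheory CategoryTheory.Limits AlgebraicGeometry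

attribute [local instance] HasDerivedCategory.standard

namespace Groth.Agent.Ega1.DualSchBdd

open Groth.Agent.LoccohB
open Groth.Agent.PerfA.Restrict (restrictD)

variable {Y : Scheme.{u}}
  [∀ (U : Scheme.{u}) (j : U ⟶ Y) [IsOpenImmersion j],
    PreservesFiniteLimits (Scheme.Modules.restrictFunctor j)]
  [∀ (R : CommRingCat.{u}), PreservesFiniteLimits (tilde.functor R)]
  {K : DCoh.D Y}

/-- A dualizing complex on a scheme has coherent cohomology. -/
theorem isCohD_of_isDualizingSch (hK : Dual2.IsDualizingSch Y K) : DCoh.IsCohD K := by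
  refine PerfA.CohExtGlue.isCohD_of_restrictD K fun y => ?_
  obtain ⟨R, j, hj, ⟨x, hx⟩⟩ : ∃ (R : CommRingCat.{u}) (j : Spec (CommRingCat.of R) ⟶ Y)
      (_ : IsOpenImmersion j), y ∈ Set.range j := by
    have h1 : IsOpenImmersion (Y.affineCover.f (Y.affineCover.idx y)) := inferInstance
    exact ⟨_, Y.affineCover.f (Y.affineCover.idx y), h1, Y.affineCover.covers y⟩
  obtain ⟨ω, hω, ⟨e⟩⟩ := hK R j
  have := hω.isNoetherianRing
  have h1 : DCoh.IsCohD ((DCoh.tildeD (CommRingCat.of R)).obj ω) :=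
    (AdAffine.isCohD_tilde_iff (P := CommRingCat.of R) ω).2 hω.finite_cohomology
  exact ⟨Spec R, j, hj, x, hx, PerfA.QCohD.isCohD_of_iso e.symm h1⟩

/-- Uniform bounds for a dualizing complex on a quasi-compact scheme. -/
theorem exists_uniform [CompactSpace Y] (hK : Dual2.IsDualizingSch Y K) :
    ∃ a b : ℤ, K.IsGE a ∧ ∀ y : Y, ∃ (R : Type u) (_ : CommRing R)
      (j : Spec (CommRingCat.of R) ⟶ Y) (_ : IsOpenImmersion j) (ω : Dual.D R),
      y ∈ Set.range j ∧ Dual.IsDualizing R ω ∧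
      Nonempty ((restrictD j).obj K ≅ (DCoh.tildeD (CommRingCat.of R)).obj ω) ∧
      ∀ (M : Type u) [AddCommGroup M] [Module R M] (i : ℤ), (i < a ∨ b < i) →
        Subsingleton (Dual.inD R M ⟶ ω⟦i⟧) := by
  let 𝒰 := Y.affineCover.finiteSubcover
  have hA : ∀ i, IsOpenImmersion (𝒰.f i) := fun i => inferInstance
  -- the affine opens
  have H : ∀ i : 𝒰.I₀, ∃ (R : CommRingCat.{u}) (j : Spec (CommRingCat.of R) ⟶ Y)
      (_ : IsOpenImmersion j)
      (ω : Dual.D R) (a b : ℤ), Set.range j = Set.range (𝒰.f i) ∧ Dual.IsDualizing R ω ∧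
      Nonempty ((restrictD j).obj K ≅ (DCoh.tildeD (CommRingCat.of R)).obj ω) ∧
      ω.IsGE a ∧ ∀ (M : Type u) [AddCommGroup M] [Module R M] (i : ℤ), (i < a ∨ b < i) →
        Subsingleton (Dual.inD R M ⟶ ω⟦i⟧) := by
    intro i
    have : IsAffine (𝒰.X i) := by dsimp [𝒰]; infer_instance
    let j : Spec (CommRingCat.of Γ(𝒰.X i, ⊤)) ⟶ Y := (𝒰.X i).isoSpec.inv ≫ 𝒰.f i
    have hj : IsOpenImmersion j := by dsimp [j]; infer_instance
    obtain ⟨ω, hω, e⟩ := hK Γ(𝒰.X i, ⊤) j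
    obtain ⟨a, b, h1, -, h2⟩ := HomBC.exists_bounds_of_isDualizing hω
    refine ⟨Γ(𝒰.X i, ⊤), j, hj, ω, a, b, ?_, hω, e, h1, h2⟩
    ext y
    constructor
    · rintro ⟨x, rfl⟩
      exact ⟨_, rfl⟩
    · rintro ⟨x, rfl⟩
      refine ⟨(𝒰.X i).isoSpec.hom x, ?_⟩
      dsimp only [j]
      rw [← Scheme.Hom.comp_apply, Iso.hom_inv_id_assoc]
  choose R j hj ω a b hr hω e hGE hab using H
  obtain ⟨a₀, ha₀⟩ : ∃ a₀ : ℤ, ∀ i, a₀ ≤ a i := by
    obtain ⟨m, hm⟩ := (Set.finite_range a).bddBelow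
    exact ⟨m, fun i => hm ⟨i, rfl⟩⟩
  obtain ⟨b₀, hb₀⟩ : ∃ b₀ : ℤ, ∀ i, b i ≤ b₀ := by
    obtain ⟨m, hm⟩ := (Set.finite_range b).bddAbove
    exact ⟨m, fun i => hm ⟨i, rfl⟩⟩
  refine ⟨a₀, b₀, ?_, fun y => ?_⟩
  · refine PerfA.CohExtGlue.isGE_of_restrictD K a₀ fun y => ?_
    obtain ⟨x, hx⟩ : y ∈ Set.range (j (𝒰.idx y)) := by
      rw [hr]; exact 𝒰.covers y
    refine ⟨_, j (𝒰.idx y), hj _, x, hx, ?_⟩
    have h1 := hGE (𝒰.idx y)
    have h2 : (ω (𝒰.idx y)).IsGE a₀ := DerivedCategory.TStructure.t.isGE_of_ge _ _ (a (𝒰.idx y)) (ha₀ _)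
    have h3 : ((DCoh.tildeD (CommRingCat.of (R (𝒰.idx y)))).obj (ω (𝒰.idx y))).IsGE a₀ :=
      PerfA.ExactD.isGE_map (tilde.functor (CommRingCat.of (R (𝒰.idx y)))) (ω (𝒰.idx y)) a₀
    obtain ⟨e⟩ := e (𝒰.idx y)
    exact DerivedCategory.TStructure.t.isGE_of_iso e.symm a₀
  · refine ⟨R (𝒰.idx y), inferInstance, j (𝒰.idx y), hj _, ω _, ?_, hω _, e _, ?_⟩
    · rw [hr]; exact 𝒰.covers y
    · intro M _ _ i hi
      refine hab _ M i ?_
      rcases hi with hi | hi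
      · exact Or.inl (lt_of_lt_of_le hi (ha₀ _))
      · exact Or.inr (lt_of_le_of_lt (hb₀ _) hi)

end Groth.Agent.Ega1.DualSchBdd
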