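import Groth.Agent.CalgA.RegSerre
import Mathlib.RingTheory.Depth.Rees
import Mathlib.RingTheory.Regular.ProjectiveDimension
import Mathlib.Algebra.Homology.DerivedCategory.Ext.Linear

/-!
# Lifting homomorphisms modulo a regular element (Lipman-Sathaye situation)

`R` regular local of dimension `≤ n + 2`, `N` a finite module killed by a regular sequence
`f_1, ..., f_n` and with depth `≥ 2` on a regular sequence `t, u`; then every homomorphism
`N → R/(f, t)` lifts to `N → R/(f)`.
-/

set_option autoImplicit false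
universe u

open CategoryTheory Abelian IsLocalRing

namespace Groth.Agent.Ega1.ExtLift

variable {R : Type u} [CommRing R]

/-- multiplication by `t` is injective on `Ext^j(X, Y)`. -/
def InjT (t : R) (X Y : ModuleCat.{u} R) (j : ℕ) : Prop :=
  ∀ e : Ext X Y j, t • e = 0 → e = 0

theorem smul_eq_zero_of_killed {f : R} {X Y : ModuleCat.{u} R} (hf : ∀ x : X, f • x = 0) {j : ℕ}
    (e : Ext X Y j) : f • e = 0 := by
  have h1 : f • 𝟙 X = 0 := by ext x; exact hf x
  have h2 : f • e = (Ext.mk₀ (f • 𝟙 X)).comp e (zero_add j) := by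
    rw [Ext.mk₀_smul, Ext.smul_comp, Ext.mk₀_id_comp]
  rw [h2, h1, Ext.mk₀_zero, Ext.zero_comp]

theorem InjT.X₃ {t : R} {X : ModuleCat.{u} R} {S : ShortComplex (ModuleCat.{u} R)}
    (hS : S.ShortExact) {j : ℕ} (hz : ∀ z : Ext X S.X₁ j, z.comp (Ext.mk₀ S.f) (add_zero j) = 0)
    (h0 : InjT t X S.X₂ j) (h1 : InjT t X S.X₁ (j + 1)) : InjT t X S.X₃ j := by
  intro e he
  -- the connecting map kills `e`
  have hd : e.comp hS.extClass rfl = 0 := by
    apply h1
    rw [← Ext.smul_comp, he, Ext.zero_comp]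
  obtain ⟨e', he'⟩ := Ext.covariant_sequence_exact₃ X hS e rfl hd
  have h2 : (t • e').comp (Ext.mk₀ S.g) (add_zero j) = 0 := by
    rw [Ext.smul_comp, he', he]
  obtain ⟨e'', he''⟩ := Ext.covariant_sequence_exact₂ X hS _ h2
  have h3 : t • e' = 0 := by rw [← he'', hz]
  rw [← he', h0 e' h3, Ext.zero_comp]

theorem InjT.quotSMulTop {t f : R} {X : ModuleCat.{u} R} (hf : ∀ x : X, f • x = 0)
    {M : ModuleCat.{u} R} (hM : IsSMulRegular M f) {j : ℕ} (h0 : InjT t X M j)
    (h1 : InjT t X M (j + 1)) : InjT t X (ModuleCat.of R (QuotSMulTop f M)) j := by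
  refine InjT.X₃ (S := M.smulShortComplex f) hM.smulShortComplex_shortExact ?_ h0 h1
  intro z
  have h2 : z.comp (Ext.mk₀ (M.smulShortComplex f).f) (add_zero j) = f • z := by
    change Ext.comp (Y := M) (Z := M) z (Ext.mk₀ (f • 𝟙 M)) (add_zero j) = f • z
    rw [Ext.mk₀_smul, Ext.comp_smul, Ext.comp_mk₀_id]
    rfl
  rw [h2]
  exact smul_eq_zero_of_killed hf z

theorem InjT.of_iso {t : R} {X Y Y' : ModuleCat.{u} R} (e : Y ≅ Y') {j : ℕ} (h : InjT t X Y j) :
    InjT t X Y' j := by
  intro z hz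
  have h1 : z.comp (Ext.mk₀ e.inv) (add_zero j) = 0 := by
    apply h
    rw [← Ext.smul_comp, hz, Ext.zero_comp]
  have h2 : (z.comp (Ext.mk₀ e.inv) (add_zero j)).comp (Ext.mk₀ e.hom) (add_zero j) = z := by
    rw [Ext.comp_assoc_of_third_deg_zero, Ext.mk₀_comp_mk₀, e.inv_hom_id, Ext.comp_mk₀_id]
  rw [← h2, h1, Ext.zero_comp]

theorem InjT.quotient {t : R} {X : ModuleCat.{u} R} : ∀ (rs : List R)
    (_ : ∀ r ∈ rs, ∀ x : X, r • x = 0) (M : ModuleCat.{u} R)
    (_ : RingTheory.Sequence.IsWeaklyRegular M rs) (j : ℕ)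
    (_ : ∀ i, i ≤ j + rs.length → InjT t X M i),
    InjT t X (ModuleCat.of R (M ⧸ (Ideal.ofList rs • (⊤ : Submodule R M)))) j := by
  intro rs
  induction rs with
  | nil =>
    intro _ M _ j h
    refine (h j (by simp)).of_iso ?_
    exact (Submodule.quotEquivOfEqBot _ (by simp)).symm.toModuleIso
  | cons r rs ih =>
    intro hk M hM j h
    rw [RingTheory.Sequence.isWeaklyRegular_cons_iff] at hM
    have h1 := ih (fun r' hr' => hk r' (List.mem_cons_of_mem _ hr')) (ModuleCat.of R (QuotSMulTop r M))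
      hM.2 j (fun i hi => InjT.quotSMulTop (hk r (List.mem_cons_self)) hM.1
        (h i (by simp; omega)) (h (i + 1) (by simp; omega)))
    exact h1.of_iso (Submodule.quotOfListConsSMulTopEquivQuotSMulTopInner M r rs).symm.toModuleIso

theorem exists_lift_aux {t : R} {X : ModuleCat.{u} R} {S : ShortComplex (ModuleCat.{u} R)}
    (hS : S.ShortExact) (ht : t • hS.extClass = 0) (h : InjT t X S.X₁ 1) (φ : X ⟶ S.X₃) :
    ∃ ψ : X ⟶ S.X₂, ψ ≫ S.g = φ := by
  have h1 : (Ext.mk₀ φ).comp hS.extClass (zero_add 1) = 0 := by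
    apply h
    rw [← Ext.comp_smul, ht, Ext.comp_zero]
  obtain ⟨x, hx⟩ := Ext.covariant_sequence_exact₃ X hS (Ext.mk₀ φ) (zero_add 1) h1
  obtain ⟨ψ, rfl⟩ := (Ext.mk₀_bijective X S.X₂).2 x
  refine ⟨ψ, ?_⟩
  rw [Ext.mk₀_comp_mk₀] at hx
  exact (Ext.mk₀_bijective _ _).1 hx

/-- Lifting `N → M/tM` to `N → M` when `t` is injective on `Ext¹(N, M)`. -/
theorem exists_lift {t : R} (X M : ModuleCat.{u} R) (hM : IsSMulRegular M t) (h : InjT t X M 1)
    (φ : X ⟶ ModuleCat.of R (QuotSMulTop t M)) :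
    ∃ ψ : X ⟶ M, ψ ≫ (M.smulShortComplex t).g = φ := by
  refine exists_lift_aux (S := M.smulShortComplex t) (t := t) hM.smulShortComplex_shortExact ?_ h φ
  have := hM.smulShortComplex_shortExact.extClass_comp
  change Ext.comp (Y := M) (Z := M) hM.smulShortComplex_shortExact.extClass (Ext.mk₀ (t • 𝟙 M))
    (add_zero 1) = 0 at this
  rw [Ext.mk₀_smul, Ext.comp_smul, Ext.comp_mk₀_id] at this
  exact this

/-- `t` acts injectively on `Ext^j(N, M)` if `Ext^j(N/tN, M) = 0`. -/
theorem InjT.of_subsingleton {t : R} {X M : ModuleCat.{u} R} (hX : IsSMulRegular X t) {j : ℕ}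
    (h : Subsingleton (Ext (ModuleCat.of R (QuotSMulTop t X)) M j)) : InjT t X M j := by
  intro e he
  have h2 : (Ext.mk₀ (X.smulShortComplex t).f).comp (Y := X) e (zero_add j) = 0 := by
    change Ext.comp (X := X) (Y := X) (Ext.mk₀ (t • 𝟙 X)) e (zero_add j) = 0
    rw [Ext.mk₀_smul, Ext.smul_comp, Ext.mk₀_id_comp, he]
  obtain ⟨x, hx⟩ := Ext.contravariant_sequence_exact₂ hX.smulShortComplex_shortExact M e h2
  rw [← hx]
  have : x = 0 := @Subsingleton.elim _ h x 0
  rw [this, Ext.comp_zero]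
  rfl

section Main

variable [IsRegularLocalRing R]

/-- The main case: `R` regular local with `dim R ≤ n + 2`, `N` finite, killed by the weakly regular
sequence `rs` of length `n`, `t` regular on `R/(rs)`, and `(t, u)` regular on `N`.  Every
homomorphism `N → R/(rs, t)` lifts to `N → R/(rs)`. -/
theorem exists_lift_regular (n : ℕ) (hdim : ringKrullDim R ≤ (n + 2 : ℕ)) (rs : List R)
    (hlen : rs.length = n) (t u : R) (hrm : ∀ r ∈ rs, r ∈ maximalIdeal R) (ht : t ∈ maximalIdeal R)
    (hu : u ∈ maximalIdeal R)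
    (hreg : RingTheory.Sequence.IsWeaklyRegular R (rs ++ [t]))
    (N : Type u) [AddCommGroup N] [Module R N] [Module.Finite R N]
    (hk : ∀ r ∈ rs, ∀ x : N, r • x = 0) (hN : RingTheory.Sequence.IsWeaklyRegular N [t, u])
    (φ : N →ₗ[R] QuotSMulTop t (R ⧸ (Ideal.ofList rs • (⊤ : Submodule R R)))) :
    ∃ ψ : N →ₗ[R] (R ⧸ (Ideal.ofList rs • (⊤ : Submodule R R))),
      (Submodule.mkQ _) ∘ₗ ψ = φ := by
  rcases subsingleton_or_nontrivial N with hsub | hnt
  · refine ⟨0, ?_⟩
    ext x
    rw [Subsingleton.elim x 0]; simp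
  have hreg' := hreg
  rw [RingTheory.Sequence.isWeaklyRegular_append_iff,
    RingTheory.Sequence.isWeaklyRegular_singleton_iff] at hreg
  have hNt : IsSMulRegular N t := by
    rw [RingTheory.Sequence.isWeaklyRegular_cons_iff] at hN
    exact hN.1
  -- projective dimension of `N`
  have hpd : HasProjectiveDimensionLT (ModuleCat.of R N) (n + 1) := by
    obtain ⟨d, hd⟩ := CalgA.RegBasic.ringKrullDim_eq_natCast R
    have hdn : d ≤ n + 2 := by rw [hd] at hdim; exact_mod_cast hdim
    have h1 := ModuleCat.projectiveDimension_quotient_eq_add_length_of_isWeaklyRegular (ModuleCat.of R N)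
      [t, u] hN (by
        intro r hr
        rcases List.mem_cons.mp hr with rfl | hr
        · exact ht
        · rw [List.mem_singleton.mp hr]; exact hu)
    have h2 := CalgA.RegSerre.PD_of_isRegularLocalRing R d hd
      (N ⧸ Ideal.ofList [t, u] • (⊤ : Submodule R N))
    have h3 : projectiveDimension (ModuleCat.of R (N ⧸ Ideal.ofList [t, u] • (⊤ : Submodule R N))) ≤
        (d : ℕ) := (projectiveDimension_le_iff _ _).mpr h2
    rw [h1] at h3
    have h4 : projectiveDimension (ModuleCat.of R N) + ((2 : ℕ) : WithBot ℕ∞) ≤ ((n + 2 : ℕ) : WithBot ℕ∞) :=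
      h3.trans (by exact_mod_cast hdn)
    have h5 : projectiveDimension (ModuleCat.of R N) ≤ (n : ℕ) := by
      rw [Nat.cast_add] at h4
      simpa only [ENat.WithBot.add_le_add_natCast_right_iff] using h4
    exact (projectiveDimension_le_iff _ _).mp h5
  have key : InjT t (ModuleCat.of R N) (ModuleCat.of R (R ⧸ (Ideal.ofList rs • (⊤ : Submodule R R)))) 1 := by
    refine InjT.quotient (X := ModuleCat.of R N) rs hk (ModuleCat.of R R) hreg.1 1 ?_
    intro i hi
    rcases Nat.lt_or_ge i (n + 1) with h | h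
    · apply InjT.of_subsingleton (X := ModuleCat.of R N) hNt
      have hJm : Ideal.ofList (rs ++ [t]) ≤ maximalIdeal R := by
        refine Ideal.span_le.mpr fun r hr => ?_
        rcases List.mem_append.mp hr with hr | hr
        · exact hrm r hr
        · rw [List.mem_singleton.mp hr]; exact ht
      have hJ1 : Ideal.ofList (rs ++ [t]) < ⊤ :=
        lt_of_le_of_lt hJm (Ne.lt_top (Ideal.IsMaximal.ne_top inferInstance))
      have hJ2 : Ideal.ofList (rs ++ [t]) • (⊤ : Submodule R R) < ⊤ := by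
        rw [Ideal.smul_eq_mul, Ideal.mul_top]; exact hJ1
      refine ModuleCat.subsingleton_ext_of_exists_isRegular (Ideal.ofList (rs ++ [t]))
        (ModuleCat.of R (QuotSMulTop t N)) ?_ (ModuleCat.of R R) hJ2 (rs ++ [t]) ?_ ⟨hreg', hJ2.ne'⟩ i
        (by simp; omega)
      · have hann : Ideal.ofList (rs ++ [t]) ≤ Module.annihilator R (QuotSMulTop t N) := by
          refine Ideal.span_le.mpr fun r hr => ?_
          rcases List.mem_append.mp hr with hr | hr
          · refine Module.mem_annihilator.mpr fun x => ?_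
            obtain ⟨x, rfl⟩ := Submodule.mkQ_surjective _ x
            rw [← map_smul, hk r hr, map_zero]
          · rw [List.mem_singleton.mp hr]
            exact QuotSMulTop.mem_annihilator N t
        rw [Module.support_eq_zeroLocus]
        exact PrimeSpectrum.zeroLocus_anti_mono hann
      · intro r hr
        exact Ideal.subset_span hr
    · have : Subsingleton (Ext (ModuleCat.of R N) (ModuleCat.of R R) i) :=
        HasProjectiveDimensionLT.subsingleton _ (n + 1) i h _
      intro e _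
      exact Subsingleton.elim _ _
  obtain ⟨ψ, hψ⟩ := exists_lift (ModuleCat.of R N)
    (ModuleCat.of R (R ⧸ (Ideal.ofList rs • (⊤ : Submodule R R)))) (by
      exact hreg.2) key (ModuleCat.ofHom φ)
  refine ⟨ψ.hom, ?_⟩
  have := congrArg ModuleCat.Hom.hom hψ
  exact this

/-- **Ext lifting lemma**, element form. -/
theorem exists_lift_elem (n : ℕ) (hdim : ringKrullDim R ≤ (n + 2 : ℕ)) (f : Fin n → R) (t u : R)
    (hfm : ∀ i, f i ∈ maximalIdeal R) (ht : t ∈ maximalIdeal R) (hu : u ∈ maximalIdeal R)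
    (hreg : RingTheory.Sequence.IsWeaklyRegular R (List.ofFn f ++ [t]))
    (I : Ideal R) (hfI : ∀ i, f i ∈ I) (hI : RingTheory.Sequence.IsWeaklyRegular (R ⧸ I) [t, u])
    (x : R) (hx : ∀ a ∈ I, a * x ∈ Ideal.span (Set.range f) ⊔ Ideal.span {t}) :
    ∃ y : R, (∀ a ∈ I, a * y ∈ Ideal.span (Set.range f)) ∧
      x - y ∈ Ideal.span (Set.range f) ⊔ Ideal.span {t} := by
  have hset : Ideal.ofList (List.ofFn f) = Ideal.span (Set.range f) := by
    unfold Ideal.ofList
    congr 1
    ext y
    simp [List.mem_ofFn]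
  have hset' : (Ideal.ofList (List.ofFn f) • (⊤ : Submodule R R)) = Ideal.span (Set.range f) := by
    rw [Ideal.smul_eq_mul, Ideal.mul_top, hset]
  have hmem : ∀ z : R, z ∈ (Ideal.ofList (List.ofFn f) • (⊤ : Submodule R R)) ↔
      z ∈ Ideal.span (Set.range f) := fun z => by rw [hset']
  let S := R ⧸ (Ideal.ofList (List.ofFn f) • (⊤ : Submodule R R))
  let q : R →ₗ[R] QuotSMulTop t S := (Submodule.mkQ _) ∘ₗ (Submodule.mkQ _)
  have hq : ∀ z : R, q z = 0 ↔ z ∈ Ideal.span (Set.range f) ⊔ Ideal.span {t} := by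
    intro z
    simp only [q, LinearMap.comp_apply, Submodule.mkQ_apply]
    rw [Submodule.Quotient.mk_eq_zero, Submodule.mem_smul_pointwise_iff_exists]
    constructor
    · rintro ⟨s, -, hs⟩
      obtain ⟨s, rfl⟩ := Submodule.mkQ_surjective _ s
      rw [← map_smul] at hs
      have hs := (hmem _).mp ((Submodule.Quotient.eq _).mp hs.symm)
      rw [smul_eq_mul] at hs
      have : z = (z - t * s) + t * s := by ring
      rw [this]
      exact Ideal.add_mem _ (Ideal.mem_sup_left hs)
        (Ideal.mem_sup_right (Ideal.mul_mem_right _ _ (Ideal.mem_span_singleton_self t)))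
    · intro hz
      obtain ⟨a, ha, b, hb, rfl⟩ := Submodule.mem_sup.mp hz
      obtain ⟨c, rfl⟩ := Ideal.mem_span_singleton'.mp hb
      refine ⟨Submodule.Quotient.mk c, trivial, ?_⟩
      rw [← Submodule.Quotient.mk_smul]
      refine ((Submodule.Quotient.eq _).mpr ((hmem _).mpr ?_)).symm
      have : a + c * t - t • c = a := by simp [mul_comm]
      rw [this]
      exact ha
  let φ : (R ⧸ I) →ₗ[R] QuotSMulTop t S := Submodule.liftQ I
    (q ∘ₗ LinearMap.toSpanSingleton R R x) (by
      intro a ha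
      rw [LinearMap.mem_ker, LinearMap.comp_apply, LinearMap.toSpanSingleton_apply]
      exact (hq _).mpr (hx a ha))
  obtain ⟨ψ, hψ⟩ := exists_lift_regular n hdim (List.ofFn f) (by simp) t u (by
      intro r hr
      obtain ⟨i, rfl⟩ := List.mem_ofFn.mp hr
      exact hfm i) ht hu hreg (R ⧸ I) (by
      intro r hr z
      obtain ⟨i, rfl⟩ := List.mem_ofFn.mp hr
      obtain ⟨z, rfl⟩ := Submodule.mkQ_surjective _ z
      rw [← map_smul, Submodule.mkQ_apply, Submodule.Quotient.mk_eq_zero]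
      exact Ideal.mul_mem_right _ _ (hfI i)) hI φ
  obtain ⟨y, hy⟩ := Submodule.mkQ_surjective _ (ψ (Submodule.Quotient.mk 1))
  refine ⟨y, fun a ha => ?_, ?_⟩
  · have h1 : ψ (Submodule.Quotient.mk a) = 0 := by
      rw [(Submodule.Quotient.mk_eq_zero I).mpr ha, map_zero]
    have h2 : (Submodule.Quotient.mk a : R ⧸ I) = a • Submodule.Quotient.mk 1 := by
      rw [← Submodule.Quotient.mk_smul]; simp
    rw [h2, map_smul, ← hy, ← map_smul] at h1
    exact (hmem _).mp ((Submodule.Quotient.mk_eq_zero _).mp h1)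
  · rw [← hq, map_sub, sub_eq_zero]
    have h1 := LinearMap.congr_fun hψ (Submodule.Quotient.mk 1)
    rw [LinearMap.comp_apply, ← hy] at h1
    have h2 : φ (Submodule.Quotient.mk 1) = q x := by
      simp only [φ]
      rw [Submodule.liftQ_apply, LinearMap.comp_apply, LinearMap.toSpanSingleton_apply, one_smul]
    rw [← h2, ← h1]
    rfl

end Main

end Groth.Agent.Ega1.ExtLift
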