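import Groth.Agent.S2106
import Mathlib.RingTheory.Nakayama
import Mathlib.RingTheory.Flat.FaithfullyFlat.Basic
import Mathlib.RingTheory.Flat.EquationalCriterion
import Mathlib.RingTheory.EssentialFiniteness
import Mathlib.RingTheory.Noetherian.Basic
import Mathlib.RingTheory.Polynomial.Basic
import Mathlib.RingTheory.Localization.AtPrime.Basic

/-!
# Fibrewise flatness criterion, essentially finite type version

`R → S → S'` local homomorphisms of local rings, `S` essentially of finite type over `R`, `S'`
essentially of finite presentation over `R`, `M` a nonzero finitely presented `S'`-module, flat over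
`R` and with `M / 𝔪_R M` flat over `S / 𝔪_R S`.  Then `S` is flat over `R` and `M` is flat over `S`.
-/

set_option autoImplicit false
universe u

namespace Groth.Agent.Ega1.FibFlat

open IsLocalRing

/-- A faithfully flat module is faithful. -/
theorem eq_zero_of_forall_smul_eq_zero {A M : Type*} [CommRing A] [AddCommGroup M] [Module A M]
    [Module.FaithfullyFlat A M] (a : A) (ha : ∀ m : M, a • m = 0) : a = 0 := by
  have h1 : Function.Injective (LinearMap.rTensor M ((Ideal.span {a} : Ideal A).subtype)) :=
    Module.Flat.rTensor_preserves_injective_linearMap _ (Submodule.subtype_injective _)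
  have h2 : LinearMap.rTensor M ((Ideal.span {a} : Ideal A).subtype) = 0 := by
    apply TensorProduct.ext'
    intro x m
    obtain ⟨b, hb⟩ := Ideal.mem_span_singleton'.mp x.2
    rw [LinearMap.rTensor_tmul]
    apply (TensorProduct.lid A M).injective
    simp only [Submodule.subtype_apply, TensorProduct.lid_tmul, LinearMap.zero_apply, map_zero]
    rw [← hb, mul_smul, ha, smul_zero]
  have h3 : Subsingleton (TensorProduct A (Ideal.span {a} : Ideal A) M) := by
    constructor
    intro x y
    apply h1
    rw [h2]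
    rfl
  have h4 : Subsingleton (Ideal.span {a} : Ideal A) :=
    Module.FaithfullyFlat.rTensor_reflects_triviality A M _
  have h5 : (⟨a, Ideal.mem_span_singleton_self a⟩ : (Ideal.span {a} : Ideal A)) = 0 :=
    Subsingleton.elim _ _
  exact congrArg Subtype.val h5

/-- Flatness of a module over a quotient ring follows from flatness over the ring. -/
theorem flat_of_surjective {A B M : Type*} [CommRing A] [CommRing B] [Algebra A B]
    [AddCommGroup M] [Module A M] [Module B M] [IsScalarTower A B M]
    (h : Function.Surjective (algebraMap A B)) [Module.Flat A M] : Module.Flat B M := by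
  refine Module.Flat.iff_forall_isTrivialRelation.mpr ?_
  intro l f x hfx
  choose g hg using fun i => h (f i)
  have h1 : ∑ i, g i • x i = 0 := by
    rw [← hfx]
    refine Finset.sum_congr rfl fun i _ => ?_
    rw [← hg i, algebraMap_smul]
  obtain ⟨k, a, y, h2, h3⟩ := Module.Flat.isTrivialRelation_of_sum_smul_eq_zero h1
  refine ⟨k, fun i j => algebraMap A B (a i j), y, fun i => ?_, fun j => ?_⟩
  · rw [h2 i]
    refine Finset.sum_congr rfl fun j _ => ?_
    rw [algebraMap_smul]
  · have := congrArg (algebraMap A B) (h3 j)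
    rw [map_sum, map_zero] at this
    rw [← this]
    refine Finset.sum_congr rfl fun i _ => ?_
    rw [map_mul, hg i]

/-- A flat module over a local ring `A`, finite and nonzero over a local `A`-algebra `B`
(with local structure map), is faithfully flat over `A`. -/
theorem faithfullyFlat_of_flat {A B M : Type*} [CommRing A] [CommRing B] [IsLocalRing A]
    [IsLocalRing B] [Algebra A B] [IsLocalHom (algebraMap A B)]
    [AddCommGroup M] [Module A M] [Module B M] [IsScalarTower A B M] [Module.Finite B M]
    [Nontrivial M] [Module.Flat A M] : Module.FaithfullyFlat A M := by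
  refine ⟨fun {m} hm => ?_⟩
  rw [eq_maximalIdeal hm]
  intro htop
  have h1 : (maximalIdeal B) • (⊤ : Submodule B M) = ⊤ := by
    rw [eq_top_iff]
    intro x _
    have hx : x ∈ (maximalIdeal A) • (⊤ : Submodule A M) := by rw [htop]; trivial
    induction hx using Submodule.smul_induction_on' with
    | smul r hr n hn =>
      rw [← algebraMap_smul B r n]
      exact Submodule.smul_mem_smul (by
        rw [mem_maximalIdeal, mem_nonunits_iff]
        intro hu
        exact (mem_nonunits_iff.mp ((mem_maximalIdeal r).mp hr))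
          (isUnit_of_map_unit (algebraMap A B) r hu)) Submodule.mem_top
    | add x hx y hy h h' => exact Submodule.add_mem _ (h trivial) (h' trivial)
  have h2 : (⊤ : Submodule B M) = ⊥ :=
    Submodule.eq_bot_of_le_smul_of_le_jacobson_bot (maximalIdeal B) ⊤ Module.Finite.fg_top h1.ge
      (maximalIdeal_le_jacobson _)
  have : Subsingleton M := by
    rw [← Submodule.subsingleton_iff B]
    exact subsingleton_of_bot_eq_top h2.symm
  exact not_subsingleton M this

/-- Transport of the flatness of the fibre along a surjection `S₀ → S` of `R`-algebras whose kernel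
lies in `I S₀`. -/
theorem flat_fibre_of_surjective {S₀ S M : Type*} [CommRing S₀] [CommRing S]
    [Algebra S₀ S] [AddCommGroup M] [Module S₀ M] [Module S M] [IsScalarTower S₀ S M]
    (J : Ideal S₀)
    (hsurj : Function.Surjective (algebraMap S₀ S)) (hker : RingHom.ker (algebraMap S₀ S) ≤ J)
    (hfib : Module.Flat (S ⧸ J.map (algebraMap S₀ S))
      (M ⧸ J.map (algebraMap S₀ S) • (⊤ : Submodule S M))) :
    Module.Flat (S₀ ⧸ J) (M ⧸ J • (⊤ : Submodule S₀ M)) := by
  -- the ring iso of the fibres
  let ψ : (S₀ ⧸ J) →+* (S ⧸ J.map (algebraMap S₀ S)) :=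
    Ideal.quotientMap _ (algebraMap S₀ S) Ideal.le_comap_map
  have hψs : Function.Surjective ψ := Ideal.quotientMap_surjective hsurj
  have hψi : Function.Injective ψ := by
    rw [injective_iff_map_eq_zero]
    intro x hx
    obtain ⟨x, rfl⟩ := Ideal.Quotient.mk_surjective x
    rw [Ideal.quotientMap_mk, Ideal.Quotient.eq_zero_iff_mem] at hx
    rw [Ideal.Quotient.eq_zero_iff_mem]
    obtain ⟨y, hy, hxy⟩ := (Ideal.mem_map_iff_of_surjective _ hsurj).mp hx
    have : x - y ∈ J := hker (by rw [RingHom.mem_ker, map_sub, hxy, sub_self])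
    simpa using J.add_mem this hy
  let : Algebra (S₀ ⧸ J) (S ⧸ J.map (algebraMap S₀ S)) := ψ.toAlgebra
  let : Module (S₀ ⧸ J) (M ⧸ J.map (algebraMap S₀ S) • (⊤ : Submodule S M)) :=
    Module.compHom _ ψ
  have : IsScalarTower (S₀ ⧸ J) (S ⧸ J.map (algebraMap S₀ S))
      (M ⧸ J.map (algebraMap S₀ S) • (⊤ : Submodule S M)) := ⟨fun a b m => by
    rw [Algebra.smul_def, mul_smul]; rfl⟩
  have hflat1 : Module.Flat (S₀ ⧸ J) (S ⧸ J.map (algebraMap S₀ S)) :=
    Module.Flat.of_linearEquiv (LinearEquiv.ofBijective
      (Algebra.linearMap (S₀ ⧸ J) (S ⧸ J.map (algebraMap S₀ S))) ⟨hψi, hψs⟩).symm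
  have hflat2 : Module.Flat (S₀ ⧸ J) (M ⧸ J.map (algebraMap S₀ S) • (⊤ : Submodule S M)) :=
    Module.Flat.trans _ (S ⧸ J.map (algebraMap S₀ S)) _
  -- compare the modules
  have hsub : ∀ x : M, x ∈ J • (⊤ : Submodule S₀ M) ↔
      x ∈ J.map (algebraMap S₀ S) • (⊤ : Submodule S M) := by
    intro x
    constructor
    · intro hx
      induction hx using Submodule.smul_induction_on' with
      | smul r hr n hn =>
        rw [← algebraMap_smul S r n]
        exact Submodule.smul_mem_smul (Ideal.mem_map_of_mem _ hr) Submodule.mem_top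
      | add x hx y hy h h' => exact Submodule.add_mem _ h h'
    · intro hx
      induction hx using Submodule.smul_induction_on' with
      | smul r hr n hn =>
        obtain ⟨r', hr', rfl⟩ := (Ideal.mem_map_iff_of_surjective _ hsurj).mp hr
        rw [algebraMap_smul]
        exact Submodule.smul_mem_smul hr' Submodule.mem_top
      | add x hx y hy h h' => exact Submodule.add_mem _ h h'
  let e0 : (M ⧸ J • (⊤ : Submodule S₀ M)) →+
      (M ⧸ J.map (algebraMap S₀ S) • (⊤ : Submodule S M)) :=
    QuotientAddGroup.map _ _ (AddMonoidHom.id M) (fun x hx => (hsub x).mp hx)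
  have he0 : Function.Bijective e0 := by
    constructor
    · rw [injective_iff_map_eq_zero]
      intro x hx
      obtain ⟨x, rfl⟩ := Submodule.Quotient.mk_surjective _ x
      have hx' : Submodule.Quotient.mk (p := J.map (algebraMap S₀ S) • (⊤ : Submodule S M)) x
          = 0 := hx
      rw [Submodule.Quotient.mk_eq_zero] at hx' ⊢
      exact (hsub x).mpr hx'
    · intro x
      obtain ⟨x, rfl⟩ := Submodule.Quotient.mk_surjective _ x
      exact ⟨Submodule.Quotient.mk x, rfl⟩
  let e : (M ⧸ J • (⊤ : Submodule S₀ M)) →ₗ[S₀ ⧸ J]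
      (M ⧸ J.map (algebraMap S₀ S) • (⊤ : Submodule S M)) :=
    { e0 with
      map_smul' := by
        intro r x
        obtain ⟨r, rfl⟩ := Ideal.Quotient.mk_surjective r
        obtain ⟨x, rfl⟩ := Submodule.Quotient.mk_surjective _ x
        change Submodule.Quotient.mk (r • x) =
          Submodule.Quotient.mk (algebraMap S₀ S r • x)
        rw [algebraMap_smul] }
  exact Module.Flat.of_linearEquiv (LinearEquiv.ofBijective e he0)

/-- The criterion in the presence of a finitely presented approximation `S₀ → S`. -/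
theorem flat_of_fibre_of_surjective {R S₀ S S' M : Type u} [CommRing R] [CommRing S₀] [CommRing S]
    [CommRing S'] [IsLocalRing R] [IsLocalRing S₀] [IsLocalRing S] [IsLocalRing S']
    [Algebra R S₀] [Algebra R S] [Algebra S₀ S] [IsScalarTower R S₀ S]
    [Algebra S S'] [Algebra R S'] [IsScalarTower R S S']
    [IsLocalHom (algebraMap R S)] [IsLocalHom (algebraMap S S')]
    (hS₀ : CAlgX.IsEssFinitePresentation R S₀)
    (hsurj : Function.Surjective (algebraMap S₀ S))
    (hker : RingHom.ker (algebraMap S₀ S) ≤ (maximalIdeal R).map (algebraMap R S₀))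
    (hS' : CAlgX.IsEssFinitePresentation R S')
    [AddCommGroup M] [Module S' M] [Module S M] [Module R M] [IsScalarTower S S' M]
    [IsScalarTower R S' M]
    [IsScalarTower R S M] [Module.FinitePresentation S' M] [Nontrivial M] [Module.Flat R M]
    (hfib : Module.Flat (S ⧸ (maximalIdeal R).map (algebraMap R S))
      (M ⧸ (maximalIdeal R).map (algebraMap R S) • (⊤ : Submodule S M))) :
    Module.Flat R S ∧ Module.Flat S M := by
  have hloc₀ : IsLocalHom (algebraMap S₀ S) := IsLocalHom.of_surjective _ hsurj
  have hlocR : IsLocalHom (algebraMap R S₀) := by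
    constructor
    intro a ha
    have : IsUnit (algebraMap R S a) := by
      rw [IsScalarTower.algebraMap_apply R S₀ S]
      exact ha.map _
    exact isUnit_of_map_unit (algebraMap R S) a this
  let : Algebra S₀ S' := ((algebraMap S S').comp (algebraMap S₀ S)).toAlgebra
  have : IsScalarTower S₀ S S' := IsScalarTower.of_algebraMap_eq fun _ => rfl
  have : IsScalarTower R S₀ S' := IsScalarTower.of_algebraMap_eq fun r => by
    rw [IsScalarTower.algebraMap_apply R S S', IsScalarTower.algebraMap_apply R S₀ S]
    rfl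
  have : IsLocalHom (algebraMap S₀ S') := by
    constructor
    intro a ha
    have h1 : IsUnit (algebraMap S₀ S a) := isUnit_of_map_unit (algebraMap S S') _ ha
    exact isUnit_of_map_unit (algebraMap S₀ S) _ h1
  let : Module S₀ M := Module.compHom M (algebraMap S₀ S)
  have : IsScalarTower S₀ S M := ⟨fun a b m => by
    rw [Algebra.smul_def, mul_smul]; rfl⟩
  have : IsScalarTower S₀ S' M := ⟨fun a b m => by
    rw [Algebra.smul_def, mul_smul, IsScalarTower.algebraMap_apply S₀ S S', algebraMap_smul]
    rfl⟩
  have : IsScalarTower R S₀ M := ⟨fun a b m => by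
    change algebraMap S₀ S (a • b) • m = a • (algebraMap S₀ S b • m)
    rw [Algebra.smul_def, map_mul, mul_smul, ← IsScalarTower.algebraMap_apply R S₀ S,
      algebraMap_smul]⟩
  have hmap : ((maximalIdeal R).map (algebraMap R S₀)).map (algebraMap S₀ S) =
      (maximalIdeal R).map (algebraMap R S) := by
    rw [Ideal.map_map, IsScalarTower.algebraMap_eq R S₀ S]
  have hfib₀ : Module.Flat (S₀ ⧸ (maximalIdeal R).map (algebraMap R S₀))
      (M ⧸ (maximalIdeal R).map (algebraMap R S₀) • (⊤ : Submodule S₀ M)) := by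
    apply flat_fibre_of_surjective (S := S) _ hsurj hker
    rw [hmap]
    exact hfib
  obtain ⟨h1, h2⟩ := Groth.Agent.S2106.result (R := R) (S := S₀) (S' := S') (M := M) hS₀ hS' hfib₀
  have : Module.FaithfullyFlat S₀ M := faithfullyFlat_of_flat (B := S')
  have hinj : Function.Injective (algebraMap S₀ S) := by
    rw [injective_iff_map_eq_zero]
    intro a ha
    apply eq_zero_of_forall_smul_eq_zero (M := M) a
    intro m
    change algebraMap S₀ S a • m = 0
    rw [ha, zero_smul]
  refine ⟨?_, flat_of_surjective (A := S₀) hsurj⟩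
  exact Module.Flat.of_linearEquiv (LinearEquiv.ofBijective
    (IsScalarTower.toAlgHom R S₀ S).toLinearMap ⟨hinj, hsurj⟩).symm

/-- Along a surjection onto a Noetherian ring, an ideal contains a finitely generated ideal with the
same image. -/
theorem exists_fg_le_map_eq {P Q : Type*} [CommRing P] [CommRing Q] [IsNoetherianRing Q]
    (ρ : P →+* Q) (K : Ideal P) : ∃ I : Ideal P, I.FG ∧ I ≤ K ∧ I.map ρ = K.map ρ := by
  classical
  have h1 : (K.map ρ).FG := IsNoetherian.noetherian _
  have h2 : (Submodule.span Q (ρ '' (K : Set P))).FG := h1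
  obtain ⟨s', hs', he⟩ := Submodule.fg_span_iff_fg_span_finset_subset _ |>.mp h2
  obtain ⟨t, ht, rfl⟩ := Finset.subset_set_image_iff.mp hs'
  refine ⟨Ideal.span t, ⟨t, rfl⟩, Ideal.span_le.mpr ht, ?_⟩
  rw [Ideal.map_span]
  have h3 : K.map ρ = Submodule.span Q (ρ '' (K : Set P)) := rfl
  rw [h3, he, Finset.coe_image]

/-- Existence of the finitely presented approximation. -/
theorem exists_approx (R S : Type u) [CommRing R] [CommRing S] [IsLocalRing R] [IsLocalRing S]
    [Algebra R S] [Algebra.EssFiniteType R S] :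
    ∃ (S₀ : Type u) (_ : CommRing S₀) (_ : IsLocalRing S₀) (_ : Algebra R S₀) (_ : Algebra S₀ S)
      (_ : IsScalarTower R S₀ S), CAlgX.IsEssFinitePresentation R S₀ ∧
      Function.Surjective (algebraMap S₀ S) ∧
      RingHom.ker (algebraMap S₀ S) ≤ (maximalIdeal R).map (algebraMap R S₀) := by
  obtain ⟨n, π₁, hπ₁⟩ := Algebra.FiniteType.iff_quotient_mvPolynomial''.mp
    (inferInstance : Algebra.FiniteType R (Algebra.EssFiniteType.subalgebra R S))
  let π : MvPolynomial (Fin n) R →ₐ[R] S := (Subalgebra.val _).comp π₁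
  have hπ : ∀ s : S, ∃ a b, IsUnit (π b) ∧ s * π b = π a := by
    intro s
    obtain ⟨⟨a, b⟩, hab⟩ := IsLocalization.surj (Algebra.EssFiniteType.submonoid R S) s
    obtain ⟨a', ha'⟩ := hπ₁ a
    obtain ⟨b', hb'⟩ := hπ₁ b
    refine ⟨a', b', ?_, ?_⟩
    · change IsUnit ((π₁ b' : Algebra.EssFiniteType.subalgebra R S) : S)
      rw [hb']
      exact b.2
    · change s * ((π₁ b' : Algebra.EssFiniteType.subalgebra R S) : S) =
        ((π₁ a' : Algebra.EssFiniteType.subalgebra R S) : S)
      rw [hb', ha']
      exact hab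
  let mP : Ideal (MvPolynomial (Fin n) R) := (maximalIdeal R).map MvPolynomial.C
  have hN : IsNoetherianRing (MvPolynomial (Fin n) R ⧸ mP) := by
    let := Ideal.Quotient.field (maximalIdeal R)
    have : IsNoetherianRing (R ⧸ maximalIdeal R) := inferInstance
    have : IsNoetherianRing (MvPolynomial (Fin n) (R ⧸ maximalIdeal R)) := inferInstance
    exact isNoetherianRing_of_ringEquiv _
      (MvPolynomial.quotientEquivQuotientMvPolynomial (maximalIdeal R)).toRingEquiv
  obtain ⟨I, hIfg, hIK, hmap⟩ := exists_fg_le_map_eq (Ideal.Quotient.mk mP) (RingHom.ker π)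
  have hK : RingHom.ker π ≤ I ⊔ mP := by
    have h1 : RingHom.ker π ≤ (I.map (Ideal.Quotient.mk mP)).comap (Ideal.Quotient.mk mP) := by
      rw [hmap]; exact Ideal.le_comap_map
    rwa [Ideal.comap_map_of_surjective _ Ideal.Quotient.mk_surjective, ← RingHom.ker_eq_comap_bot,
      Ideal.mk_ker] at h1
  let P₀ := MvPolynomial (Fin n) R ⧸ I
  let π₀ : P₀ →ₐ[R] S := Ideal.Quotient.liftₐ I π (fun a ha => hIK ha)
  let q : Ideal P₀ := (maximalIdeal S).comap π₀
  have hq : q.IsPrime := Ideal.IsPrime.comap _
  let S₀ := Localization.AtPrime q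
  have hunit : ∀ y : q.primeCompl, IsUnit (π₀ y) := by
    intro y
    have := y.2
    by_contra h
    exact this (by
      change π₀ y ∈ maximalIdeal S
      rwa [mem_maximalIdeal, mem_nonunits_iff])
  let φ : S₀ →ₐ[R] S := IsLocalization.liftAlgHom (M := q.primeCompl) (f := π₀) hunit
  have hφ : ∀ a : P₀, φ (algebraMap P₀ S₀ a) = π₀ a := fun a =>
    IsLocalization.lift_eq (M := q.primeCompl) (g := π₀.toRingHom) hunit a
  let : Algebra S₀ S := φ.toRingHom.toAlgebra
  have : IsScalarTower R S₀ S := IsScalarTower.of_algebraMap_eq fun r => (φ.commutes r).symm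
  refine ⟨S₀, inferInstance, inferInstance, inferInstance, inferInstance, inferInstance, ?_, ?_, ?_⟩
  · exact ⟨P₀, inferInstance, inferInstance, inferInstance, inferInstance, q.primeCompl,
      Algebra.FinitePresentation.quotient hIfg, inferInstance⟩
  · intro s
    obtain ⟨a, b, hb, hab⟩ := hπ s
    let a₀ : P₀ := Ideal.Quotient.mk I a
    let b₀ : P₀ := Ideal.Quotient.mk I b
    have hb₀ : b₀ ∈ q.primeCompl := by
      intro h
      have h' : π b ∈ maximalIdeal S := h
      rw [mem_maximalIdeal, mem_nonunits_iff] at h'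
      exact h' hb
    refine ⟨IsLocalization.mk' S₀ a₀ ⟨b₀, hb₀⟩, ?_⟩
    have h1 : φ (IsLocalization.mk' S₀ a₀ ⟨b₀, hb₀⟩) * π b = π a := by
      have h2 : π b = φ (algebraMap P₀ S₀ b₀) := (hφ b₀).symm
      have h3 : π a = φ (algebraMap P₀ S₀ a₀) := (hφ a₀).symm
      rw [h2, h3, ← map_mul]
      exact congrArg φ (IsLocalization.mk'_spec S₀ a₀ ⟨b₀, hb₀⟩)
    change φ _ = s
    rw [← hab] at h1
    exact hb.mul_right_cancel h1
  · intro x hx
    obtain ⟨a, b, rfl⟩ := IsLocalization.exists_mk'_eq q.primeCompl x
    obtain ⟨a', rfl⟩ := Ideal.Quotient.mk_surjective a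
    have hx' : φ (IsLocalization.mk' S₀ (Ideal.Quotient.mk I a') b) = 0 := hx
    have h1 : π a' = 0 := by
      have h3 : π a' = φ (algebraMap P₀ S₀ (Ideal.Quotient.mk I a')) :=
        (hφ (Ideal.Quotient.mk I a')).symm
      rw [h3, ← IsLocalization.mk'_spec S₀ (Ideal.Quotient.mk I a') b, map_mul, hx', zero_mul]
    have h2 : a' ∈ I ⊔ mP := hK h1
    obtain ⟨c, hc, d, hd, rfl⟩ := Submodule.mem_sup.mp h2
    rw [IsLocalization.mk'_eq_mul_mk'_one]
    apply Ideal.mul_mem_right
    have h4 : Ideal.Quotient.mk I (c + d) = Ideal.Quotient.mk I d := by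
      rw [map_add, Ideal.Quotient.eq_zero_iff_mem.mpr hc, zero_add]
    rw [h4]
    have h5 : (maximalIdeal R).map (algebraMap R S₀) =
        mP.map ((algebraMap P₀ S₀).comp (Ideal.Quotient.mk I)) := by
      rw [Ideal.map_map]
      rfl
    rw [h5]
    exact Ideal.mem_map_of_mem ((algebraMap P₀ S₀).comp (Ideal.Quotient.mk I)) hd

/-- **Fibrewise flatness criterion**, `S` essentially of finite type over `R`. -/
theorem flat_of_fibre {R S S' M : Type u} [CommRing R] [CommRing S] [CommRing S']
    [IsLocalRing R] [IsLocalRing S] [IsLocalRing S'] [Algebra R S] [Algebra S S'] [Algebra R S']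
    [IsScalarTower R S S']
    [IsLocalHom (algebraMap R S)] [IsLocalHom (algebraMap S S')]
    (hS : Algebra.EssFiniteType R S) (hS' : CAlgX.IsEssFinitePresentation R S')
    [AddCommGroup M] [Module S' M] [Module S M] [Module R M] [IsScalarTower S S' M]
    [IsScalarTower R S' M]
    [IsScalarTower R S M] [Module.FinitePresentation S' M] [Nontrivial M] [Module.Flat R M]
    (hfib : Module.Flat (S ⧸ (maximalIdeal R).map (algebraMap R S))
      (M ⧸ (maximalIdeal R).map (algebraMap R S) • (⊤ : Submodule S M))) :
    Module.Flat R S ∧ Module.Flat S M := by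
  obtain ⟨S₀, _, _, _, _, _, h1, h2, h3⟩ := exists_approx R S
  exact flat_of_fibre_of_surjective h1 h2 h3 hS' hfib

end Groth.Agent.Ega1.FibFlat
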