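import Mathlib.AlgebraicGeometry.Geometrically.Irreducible
import Mathlib.AlgebraicGeometry.Morphisms.Integral
import Mathlib.AlgebraicGeometry.Morphisms.Flat
import Mathlib.RingTheory.AlgebraicIndependent.Adjoin
import Mathlib.RingTheory.AlgebraicIndependent.TranscendenceBasis
import Mathlib.RingTheory.Localization.BaseChange
import Mathlib.RingTheory.TensorProduct.MvPolynomial

/-!
# Irreducible components under field extensions

* purely transcendental extensions are geometrically irreducible;
* the image of an irreducible component of `X_K` in `X` is an irreducible component.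
-/

set_option autoImplicit false

universe u v w

namespace Groth.Agent.Ega1.FieldExtComp

open TensorProduct

section Algebra

variable (k : Type u) [Field k] (F : Type v) [CommRing F] [IsDomain F] [Algebra k F] (ι : Type w)

/-- `F ⊗ k(x_i)` is a domain for every `k`-algebra `F` which is a domain. -/
theorem isDomain_tensor_fractionRing_mvPolynomial :
    IsDomain (F ⊗[k] FractionRing (MvPolynomial ι k)) := by
  let P := MvPolynomial ι k
  let K' := FractionRing P
  let g : F ⊗[k] P →ₐ[F] F ⊗[k] K' :=
    Algebra.TensorProduct.map (AlgHom.id F F) (IsScalarTower.toAlgHom k P K')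
  let : Algebra (F ⊗[k] P) (F ⊗[k] K') := g.toRingHom.toAlgebra
  have : IsScalarTower F (F ⊗[k] P) (F ⊗[k] K') := IsScalarTower.of_algebraMap_eq' g.comp_algebraMap.symm
  have hloc : IsLocalization ((nonZeroDivisors P).map
      (Algebra.TensorProduct.includeRight (R := k) (A := F))) (F ⊗[k] K') := by
    refine IsLocalization.tensorProduct_tensorProduct_right k F (nonZeroDivisors P) K' ?_
    ext x
    · simp [RingHom.algebraMap_toAlgebra, g]
    · simp [RingHom.algebraMap_toAlgebra, g]
  have hdom : IsDomain (F ⊗[k] P) := by
    have e : F ⊗[k] P ≃ₐ[F] MvPolynomial ι F := MvPolynomial.algebraTensorAlgEquiv k F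
    exact e.toRingEquiv.toMulEquiv.isDomain _
  have hle : (nonZeroDivisors P).map
      (Algebra.TensorProduct.includeRight (R := k) (A := F)) ≤ nonZeroDivisors (F ⊗[k] P) := by
    rintro _ ⟨p, hp, rfl⟩
    rw [mem_nonZeroDivisors_iff_ne_zero]
    intro h
    have hinj : Function.Injective (Algebra.TensorProduct.includeRight : P →ₐ[k] F ⊗[k] P) :=
      Algebra.TensorProduct.includeRight_injective (algebraMap k F).injective
    exact nonZeroDivisors.ne_zero hp (hinj (by rw [map_zero]; exact h))
  exact IsLocalization.isDomain_of_le_nonZeroDivisors _ hle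

end Algebra

section Topology

open Set

/-- A continuous closed map along which generalizations lift maps irreducible components to
irreducible components (target quasi-sober, source quasi-sober). -/
theorem image_mem_irreducibleComponents_of_isClosedMap {X Y : Type u} [TopologicalSpace X]
    [TopologicalSpace Y] [QuasiSober X] [QuasiSober Y] {f : X → Y} (hf : Continuous f)
    (hg : GeneralizingMap f) (hc : IsClosedMap f) {T : Set X} (hT : T ∈ irreducibleComponents X) :
    f '' T ∈ irreducibleComponents Y := by
  have hTi : IsIrreducible T := hT.1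
  have hTc : IsClosed T := isClosed_of_mem_irreducibleComponents T hT
  refine ⟨hTi.image f hf.continuousOn, ?_⟩
  intro Z hZ hZT
  have hZ' : IsIrreducible (closure Z) := hZ.closure
  obtain ⟨ξ, hξ⟩ := QuasiSober.sober hTi hTc
  obtain ⟨z, hz⟩ := QuasiSober.sober hZ' isClosed_closure
  have h1 : z ⤳ f ξ := by
    rw [specializes_iff_mem_closure, hz.def]
    exact subset_closure (hZT ⟨ξ, hξ.mem, rfl⟩)
  obtain ⟨ξ', hξ', hfξ'⟩ := hg h1
  have h2 : closure {ξ'} ⊆ T := by
    refine hT.2 isIrreducible_singleton.closure ?_
    rw [← hξ.def]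
    exact closure_minimal (singleton_subset_iff.mpr (specializes_iff_mem_closure.mp hξ')) isClosed_closure
  intro y hy
  have h3 : y ∈ closure ({z} : Set Y) := by rw [hz.def]; exact subset_closure hy
  have h4 : z ∈ f '' T := ⟨ξ', h2 (subset_closure (mem_singleton _)), hfξ'⟩
  exact closure_minimal (singleton_subset_iff.mpr h4) (hc T hTc) h3

end Topology

section Scheme

open AlgebraicGeometry CategoryTheory Limits

/-- The morphism maps irreducible components onto irreducible components. -/
def MapsComp {X Y : Scheme.{u}} (p : X ⟶ Y) : Prop :=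
  ∀ T ∈ irreducibleComponents (X : Type u), p '' T ∈ irreducibleComponents (Y : Type u)

theorem MapsComp.comp {X Y Z : Scheme.{u}} {p : X ⟶ Y} {q : Y ⟶ Z} (hp : MapsComp p)
    (hq : MapsComp q) : MapsComp (p ≫ q) := by
  intro T hT
  have h := hq _ (hp T hT)
  rw [← Set.image_comp] at h
  have : (fun x => (p ≫ q) x) = q ∘ p := by
    funext x
    simp
  change (fun x => (p ≫ q) x) '' T ∈ _
  rw [this]
  exact h

theorem MapsComp.of_flat_of_isClosedMap {X Y : Scheme.{u}} (p : X ⟶ Y) [Flat p]
    (hc : IsClosedMap p) : MapsComp p := fun _ hT =>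
  image_mem_irreducibleComponents_of_isClosedMap p.continuous (Flat.generalizingMap p) hc hT

theorem MapsComp.of_geometricallyIrreducible {X Y : Scheme.{u}} (p : X ⟶ Y)
    [GeometricallyIrreducible p] (ho : IsOpenMap p) : MapsComp p := by
  intro T hT
  have hTi : IsIrreducible T := hT.1
  refine ⟨hTi.image p p.continuous.continuousOn, ?_⟩
  intro Z hZ hZT
  have h1 : IsIrreducible (p ⁻¹' Z) := p.isIrreducible_preimage ho hZ
  have h2 : T ⊆ p ⁻¹' Z := Set.image_subset_iff.mp hZT
  have h3 : p ⁻¹' Z ⊆ T := hT.2 h1 h2
  intro z hz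
  obtain ⟨x, rfl⟩ := p.surjective z
  exact ⟨x, h3 hz, rfl⟩

/-- If `p` maps components to components and is surjective, then every component is an image. -/
theorem MapsComp.exists_eq {X Y : Scheme.{u}} {p : X ⟶ Y} (hp : MapsComp p) [Surjective p]
    {Z : Set Y} (hZ : Z ∈ irreducibleComponents (Y : Type u)) :
    ∃ T ∈ irreducibleComponents (X : Type u), p '' T = Z := by
  obtain ⟨η, hη⟩ := QuasiSober.sober hZ.1 (isClosed_of_mem_irreducibleComponents Z hZ)
  obtain ⟨ξ, rfl⟩ := p.surjective η
  refine ⟨irreducibleComponent ξ, irreducibleComponent_mem_irreducibleComponents ξ, ?_⟩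
  have h1 := hp _ (irreducibleComponent_mem_irreducibleComponents ξ)
  have h2 : Z ⊆ p '' irreducibleComponent ξ := by
    rw [← hη.def]
    exact closure_minimal (Set.singleton_subset_iff.mpr ⟨ξ, mem_irreducibleComponent, rfl⟩)
      (isClosed_of_mem_irreducibleComponents _ h1)
  exact subset_antisymm (hZ.2 h1.1 h2) h2

variable (k : Type u) [Field k]

theorem geometricallyIrreducible_of_isDomain (k' : Type u) [Field k'] [Algebra k k']
    (h : ∀ (F : Type u) [Field F] [Algebra k F], IsDomain (k' ⊗[k] F)) :
    GeometricallyIrreducible (Spec.map (CommRingCat.ofHom (algebraMap k k'))) := by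
  refine ⟨geometrically_iff_of_commRing_of_isClosedUnderIsomorphisms.mpr fun F _ _ => ?_⟩
  have : IsDomain (k' ⊗[k] F) := h F
  have h1 : IrreducibleSpace (Spec (CommRingCat.of (k' ⊗[k] F))) := inferInstance
  exact (pullbackSpecIso k k' F).inv.homeomorph.irreducibleSpace_iff.mp h1

theorem geometricallyIrreducible_adjoin {K : Type u} [Field K] [Algebra k K] {ι : Type u}
    {x : ι → K} (hx : AlgebraicIndependent k x) :
    GeometricallyIrreducible (Spec.map (CommRingCat.ofHom
      (algebraMap k (IntermediateField.adjoin k (Set.range x))))) := by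
  refine geometricallyIrreducible_of_isDomain k _ fun F _ _ => ?_
  have := isDomain_tensor_fractionRing_mvPolynomial k F ι
  have e : (IntermediateField.adjoin k (Set.range x)) ⊗[k] F ≃ₐ[k] F ⊗[k] FractionRing (MvPolynomial ι k) :=
    (Algebra.TensorProduct.comm k _ F).trans
      (Algebra.TensorProduct.congr AlgEquiv.refl hx.aevalEquivField.symm)
  exact e.toRingEquiv.toMulEquiv.isDomain _

/-- Stacks 04KX: for a field extension `K/k`, the projection `X_K ⟶ X` maps irreducible
components onto irreducible components. -/
theorem mapsComp_pullback_fst {X : Scheme.{u}} (s : X ⟶ Spec (CommRingCat.of k))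
    (K : Type u) [Field K] [Algebra k K] :
    MapsComp (pullback.fst s (Spec.map (CommRingCat.ofHom (algebraMap k K)))) := by
  obtain ⟨ι, x, hx⟩ := exists_isTranscendenceBasis' k K
  let k' := IntermediateField.adjoin k (Set.range x)
  let a : Spec (CommRingCat.of k') ⟶ Spec (CommRingCat.of k) :=
    Spec.map (CommRingCat.ofHom (algebraMap k k'))
  let b : Spec (CommRingCat.of K) ⟶ Spec (CommRingCat.of k') :=
    Spec.map (CommRingCat.ofHom (algebraMap k' K))
  have hba : Spec.map (CommRingCat.ofHom (algebraMap k K)) = b ≫ a := by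
    rw [← Spec.map_comp, ← CommRingCat.ofHom_comp, ← IsScalarTower.algebraMap_eq]
  have halg : Algebra.IsAlgebraic k' K := hx.isAlgebraic_field
  have : Algebra.IsIntegral k' K := inferInstance
  have hb : IsIntegralHom b := by
    refine IsIntegralHom.SpecMap_iff.mpr ?_
    exact algebraMap_isIntegral_iff.mpr this
  have hbf : Flat b := by
    refine Flat.SpecMap_iff.mpr ?_
    have : Module.Flat k' K := inferInstance
    exact RingHom.flat_algebraMap_iff.mpr this
  have ha : GeometricallyIrreducible a := geometricallyIrreducible_adjoin k hx.1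
  have hao : UniversallyOpen a := inferInstance
  rw [hba]
  have he : pullback.fst s (b ≫ a) = (pullbackLeftPullbackSndIso s a b).inv ≫
      pullback.fst (pullback.snd s a) b ≫ pullback.fst s a := by
    rw [Iso.eq_inv_comp, pullbackLeftPullbackSndIso_hom_fst]
  rw [he]
  refine MapsComp.comp ?_ (MapsComp.comp ?_ ?_)
  · exact MapsComp.of_flat_of_isClosedMap (pullbackLeftPullbackSndIso s a b).inv
      (Scheme.Hom.homeomorph (pullbackLeftPullbackSndIso s a b).inv).isClosedMap
  · exact MapsComp.of_flat_of_isClosedMap _ (pullback.fst (pullback.snd s a) b).isClosedMap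
  · exact MapsComp.of_geometricallyIrreducible _ (pullback.fst s a).isOpenMap

end Scheme

end Groth.Agent.Ega1.FieldExtComp
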