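import Mathlib.LinearAlgebra.Alternating.Uncurry.Fin
import Mathlib.LinearAlgebra.ExteriorPower.Basis
import Mathlib.LinearAlgebra.Determinant
import Mathlib.RingTheory.Regular.RegularSequence
import Mathlib.LinearAlgebra.Matrix.ToLin

/-!
# The linkage lemma (Wiebe): `(f) : (h) = (f) + (det M)` for `f = M h`, `f` a regular sequence

Elementary proof with alternating forms; any commutative ring, no hypothesis on `h`.
-/

set_option autoImplicit false

namespace Groth.Agent.Ega1.Linkage

open AlternatingMap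

variable {R : Type*} [CommRing R]

/-- `g` is a weakly regular sequence on `R ⧸ J` (element form). -/
def WReg (J : Ideal R) {p : ℕ} (g : Fin p → R) : Prop :=
  ∀ (k : Fin p) (z : R), g k * z ∈ J ⊔ Ideal.span {y | ∃ i, i < k ∧ g i = y} →
    z ∈ J ⊔ Ideal.span {y | ∃ i, i < k ∧ g i = y}

/-- Relations of a regular sequence: the first coefficient lies in the ideal of the others. -/
theorem WReg.coeff_mem {J : Ideal R} : ∀ {p : ℕ} {g : Fin (p + 1) → R} (_ : WReg J g)
    (a : Fin (p + 1) → R) (_ : ∑ i, a i * g i ∈ J),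
    a 0 ∈ J ⊔ Ideal.span (Set.range fun i : Fin p => g i.succ) := by
  intro p
  induction p with
  | zero =>
    intro g hg a ha
    have h0 := hg 0 (a 0)
    have he : {y : R | ∃ i : Fin 1, i < 0 ∧ g i = y} = ∅ := by
      ext y; simp
    rw [he, Ideal.span_empty, sup_bot_eq] at h0
    have : a 0 ∈ J := h0 (by simpa [mul_comm] using ha)
    exact Ideal.mem_sup_left this
  | succ p ih =>
    intro g hg a ha
    -- the last coefficient
    have hlast := hg (Fin.last _) (a (Fin.last _))
    have hset : {y : R | ∃ i : Fin (p + 2), i < Fin.last _ ∧ g i = y} =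
        Set.range (fun i : Fin (p + 1) => g i.castSucc) := by
      ext y
      constructor
      · rintro ⟨i, hi, rfl⟩
        exact ⟨i.castPred hi.ne, by simp⟩
      · rintro ⟨i, rfl⟩
        exact ⟨i.castSucc, Fin.castSucc_lt_last i, rfl⟩
    rw [hset] at hlast
    rw [Fin.sum_univ_castSucc] at ha
    have h1 : a (Fin.last _) ∈ J ⊔ Ideal.span (Set.range fun i : Fin (p + 1) => g i.castSucc) := by
      apply hlast
      have h2 : (∑ i : Fin (p + 1), a i.castSucc * g i.castSucc) ∈
          J ⊔ Ideal.span (Set.range fun i : Fin (p + 1) => g i.castSucc) := by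
        apply Ideal.mem_sup_right
        exact Ideal.sum_mem _ fun i _ => Ideal.mul_mem_left _ _ (Ideal.subset_span ⟨i, rfl⟩)
      have h3 := Ideal.sub_mem _ (Ideal.mem_sup_left (T := Ideal.span (Set.range fun i : Fin (p + 1) => g i.castSucc)) ha) h2
      rw [add_sub_cancel_left] at h3
      rwa [mul_comm] at h3
    obtain ⟨y, hy, s, hs, hys⟩ := Submodule.mem_sup.mp h1
    obtain ⟨b, hb⟩ := (Ideal.mem_span_range_iff_exists_fun).mp hs
    -- the shorter relation
    have hg' : WReg J (fun i : Fin (p + 1) => g i.castSucc) := by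
      intro k z hz
      have := hg k.castSucc z
      have hset' : {y : R | ∃ i : Fin (p + 2), i < k.castSucc ∧ g i = y} =
          {y : R | ∃ i : Fin (p + 1), i < k ∧ g i.castSucc = y} := by
        ext y
        constructor
        · rintro ⟨i, hi, rfl⟩
          have hne : i ≠ Fin.last _ := (hi.trans (Fin.castSucc_lt_last k)).ne
          exact ⟨i.castPred hne, by rw [Fin.castPred_lt_iff]; exact hi, by simp⟩
        · rintro ⟨i, hi, rfl⟩
          exact ⟨i.castSucc, by simpa using hi, rfl⟩
      rw [hset'] at this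
      exact this hz
    have hrel : ∑ i : Fin (p + 1), (a i.castSucc + b i * g (Fin.last _)) * g i.castSucc ∈ J := by
      have : ∑ i : Fin (p + 1), (a i.castSucc + b i * g (Fin.last _)) * g i.castSucc =
          (∑ i : Fin (p + 1), a i.castSucc * g i.castSucc + a (Fin.last _) * g (Fin.last _)) -
            y * g (Fin.last _) := by
        rw [← hys, ← hb]
        simp only [add_mul, Finset.sum_add_distrib, Finset.sum_mul]
        rw [add_comm (y * _), ← add_assoc, add_sub_cancel_right]
        congr 1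
        exact Finset.sum_congr rfl fun i _ => by ring
      rw [this]
      exact Ideal.sub_mem _ ha (Ideal.mul_mem_right _ _ hy)
    have h4 := ih hg' (fun i => a i.castSucc + b i * g (Fin.last _)) hrel
    have h5 : J ⊔ Ideal.span (Set.range fun i : Fin p => g i.succ.castSucc) ≤
        J ⊔ Ideal.span (Set.range fun i : Fin (p + 1) => g i.succ) := by
      apply sup_le_sup_left
      apply Ideal.span_mono
      rintro _ ⟨i, rfl⟩
      exact ⟨i.castSucc, by simp⟩
    have h6 := h5 h4
    simp only [Fin.castSucc_zero] at h6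
    have h7 : b 0 * g (Fin.last _) ∈ J ⊔ Ideal.span (Set.range fun i : Fin (p + 1) => g i.succ) :=
      Ideal.mul_mem_left _ _ (Ideal.mem_sup_right (Ideal.subset_span ⟨Fin.last _, by simp⟩))
    simpa using Ideal.sub_mem _ h6 h7

/-- Dropping the first element of the sequence. -/
theorem WReg.tail {J : Ideal R} {p : ℕ} {g : Fin (p + 1) → R} (hg : WReg J g) :
    WReg (J ⊔ Ideal.span {g 0}) (fun i : Fin p => g i.succ) := by
  intro k z hz
  have hset : J ⊔ Ideal.span {y : R | ∃ i : Fin (p + 1), i < k.succ ∧ g i = y} =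
      (J ⊔ Ideal.span {g 0}) ⊔ Ideal.span {y : R | ∃ i : Fin p, i < k ∧ g i.succ = y} := by
    rw [sup_assoc, ← Ideal.span_union]
    congr 2
    ext y
    constructor
    · rintro ⟨i, hi, rfl⟩
      induction i using Fin.cases with
      | zero => exact Or.inl rfl
      | succ i => exact Or.inr ⟨i, by simpa using hi, rfl⟩
    · rintro (hy | ⟨i, hi, rfl⟩)
      · exact ⟨0, Fin.succ_pos k, (Set.mem_singleton_iff.mp hy).symm⟩
      · exact ⟨i.succ, by simpa using hi, rfl⟩
  have := hg k.succ z
  rw [hset] at this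
  exact this hz

theorem WReg.head {J : Ideal R} {p : ℕ} {g : Fin (p + 1) → R} (hg : WReg J g) {z : R}
    (hz : g 0 * z ∈ J) : z ∈ J := by
  have h0 := hg 0 z
  have he : {y : R | ∃ i : Fin (p + 1), i < 0 ∧ g i = y} = ∅ := by
    ext y; simp
  rw [he, Ideal.span_empty, sup_bot_eq] at h0
  exact h0 hz

variable {V : Type*} [AddCommGroup V] [Module R V]

/-- `h ∧ c`. -/
noncomputable def wedge (h : V →ₗ[R] R) {p : ℕ} (c : V [⋀^Fin p]→ₗ[R] R) :
    V [⋀^Fin (p + 1)]→ₗ[R] R :=
  alternatizeUncurryFin (h.smulRight c)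

theorem wedge_apply (h : V →ₗ[R] R) {p : ℕ} (c : V [⋀^Fin p]→ₗ[R] R) (v : Fin (p + 1) → V) :
    wedge h c v = ∑ i : Fin (p + 1), (-1) ^ (i : ℕ) * (h (v i) * c (i.removeNth v)) := by
  simp [wedge, alternatizeUncurryFin_apply, LinearMap.smulRight_apply]

theorem wedge_wedge (h : V →ₗ[R] R) {p : ℕ} (c : V [⋀^Fin p]→ₗ[R] R) :
    wedge h (wedge h c) = 0 := by
  have key := alternatizeUncurryFin_alternatizeUncurryFinLM_comp_of_symmetric
    (f := h.smulRight (h.smulRight c)) (by
      intro x y
      simp only [LinearMap.smulRight_apply, LinearMap.smul_apply]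
      rw [smul_smul, smul_smul, mul_comm])
  rw [← key]
  unfold wedge
  congr 1
  ext x v
  simp [LinearMap.smulRight_apply]


/-- One step of the induction: divide `h ∧ c'` by `a`. -/
theorem exists_div [Module.Free R V] (J : Ideal R) (a : R) {p : ℕ} (w : V [⋀^Fin p]→ₗ[R] R)
    (hw : ∀ v, w v ∈ J ⊔ Ideal.span {a}) :
    ∃ c : V [⋀^Fin p]→ₗ[R] R, ∀ v, w v - a * c v ∈ J := by
  let L : ⋀[R]^p V →ₗ[R] R := exteriorPower.alternatingMapLinearEquiv w
  have hL : ∀ x, L x ∈ J ⊔ Ideal.span {a} := by
    intro x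
    have hx : x ∈ Submodule.span R (Set.range (exteriorPower.ιMulti R p (M := V))) := by
      rw [exteriorPower.ιMulti_span]; trivial
    refine Submodule.span_induction (p := fun x _ => L x ∈ J ⊔ Ideal.span {a}) ?_ ?_ ?_ ?_ hx
    · rintro _ ⟨v, rfl⟩
      simp only [L, exteriorPower.alternatingMapLinearEquiv_apply_ιMulti]
      exact hw v
    · simp
    · intro x y _ _ hx hy
      rw [map_add]; exact Ideal.add_mem _ hx hy
    · intro r x _ hx
      rw [map_smul]; exact Ideal.mul_mem_left _ _ hx
  let L' : ⋀[R]^p V →ₗ[R] ↥(J ⊔ Ideal.span {a}) := L.codRestrict _ hL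
  let β : (R × J) →ₗ[R] ↥(J ⊔ Ideal.span {a}) :=
    ((LinearMap.toSpanSingleton R R a).coprod J.subtype).codRestrict _ (by
      rintro ⟨r, j⟩
      simp only [LinearMap.coprod_apply, LinearMap.toSpanSingleton_apply, Submodule.subtype_apply,
        smul_eq_mul]
      exact Ideal.add_mem _ (Ideal.mem_sup_right (Ideal.mul_mem_left _ _ (Ideal.mem_span_singleton_self a)))
        (Ideal.mem_sup_left j.2))
  have hβ : Function.Surjective β := by
    rintro ⟨y, hy⟩
    obtain ⟨j, hj, s, hs, rfl⟩ := Submodule.mem_sup.mp hy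
    obtain ⟨r, rfl⟩ := Ideal.mem_span_singleton'.mp hs
    refine ⟨(r, ⟨j, hj⟩), Subtype.ext ?_⟩
    simp [β, add_comm]
  obtain ⟨ψ, hψ⟩ := Module.projective_lifting_property β L' hβ
  refine ⟨exteriorPower.alternatingMapLinearEquiv.symm (LinearMap.fst R R J ∘ₗ ψ), fun v => ?_⟩
  rw [exteriorPower.alternatingMapLinearEquiv_symm_apply]
  have h1 := congrArg Subtype.val (LinearMap.congr_fun hψ (exteriorPower.ιMulti R p v))
  simp only [LinearMap.comp_apply, L', L, β, LinearMap.codRestrict_apply,
    exteriorPower.alternatingMapLinearEquiv_apply_ιMulti, LinearMap.coprod_apply,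
    LinearMap.toSpanSingleton_apply, Submodule.subtype_apply, smul_eq_mul] at h1
  rw [← h1]
  change (ψ (exteriorPower.ιMulti R p v)).1 * a + ((ψ (exteriorPower.ιMulti R p v)).2 : R) -
    a * (ψ (exteriorPower.ιMulti R p v)).1 ∈ J
  rw [mul_comm, add_sub_cancel_left]
  exact (ψ _).2.2

theorem exists_form [Module.Free R V] (h : V →ₗ[R] R) : ∀ {p : ℕ} (J : Ideal R) (m : Fin p → V)
    (_ : WReg J fun i => h (m i)) (x : R)
    (_ : ∀ v, x * h v ∈ J ⊔ Ideal.span (Set.range fun i => h (m i))),
    ∃ c : V [⋀^Fin p]→ₗ[R] R, (∀ v, wedge h c v ∈ J) ∧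
      c m - x ∈ J ⊔ Ideal.span (Set.range fun i => h (m i)) := by
  intro p
  induction p with
  | zero =>
    intro J m _ x hx
    refine ⟨AlternatingMap.constOfIsEmpty R V (Fin 0) x, fun v => ?_, by simp⟩
    rw [wedge_apply]
    have := hx (v 0)
    have he : Set.range (fun i : Fin 0 => h (m i)) = ∅ := by simp
    rw [he, Ideal.span_empty, sup_bot_eq] at this
    simpa [mul_comm] using this
  | succ p ih =>
    intro J m hreg x hx
    have hJ : (J ⊔ Ideal.span {h (m 0)}) ⊔ Ideal.span (Set.range fun i : Fin p => h (m i.succ)) =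
        J ⊔ Ideal.span (Set.range fun i : Fin (p + 1) => h (m i)) := by
      rw [sup_assoc, ← Ideal.span_union]
      congr 2
      ext y
      constructor
      · rintro (hy | ⟨i, rfl⟩)
        · exact ⟨0, (Set.mem_singleton_iff.mp hy).symm⟩
        · exact ⟨i.succ, rfl⟩
      · rintro ⟨i, rfl⟩
        induction i using Fin.cases with
        | zero => exact Or.inl rfl
        | succ i => exact Or.inr ⟨i, rfl⟩
    obtain ⟨c', hc', hx'⟩ := ih (J ⊔ Ideal.span {h (m 0)}) (fun i => m i.succ) hreg.tail x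
      (by rw [hJ]; exact hx)
    rw [hJ] at hx'
    obtain ⟨c, hc⟩ := exists_div J (h (m 0)) (wedge h c') hc'
    refine ⟨c, fun v => ?_, ?_⟩
    · apply hreg.head
      have h0 : wedge h (wedge h c') v = 0 := by rw [wedge_wedge]; rfl
      rw [wedge_apply] at h0 ⊢
      have h1 : h (m 0) * ∑ i : Fin (p + 1 + 1), (-1) ^ (i : ℕ) * (h (v i) * c (i.removeNth v)) =
          ∑ i : Fin (p + 1 + 1), (-1) ^ (i : ℕ) * (h (v i) * wedge h c' (i.removeNth v)) -
          ∑ i : Fin (p + 1 + 1), (-1) ^ (i : ℕ) * h (v i) *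
            (wedge h c' (i.removeNth v) - h (m 0) * c (i.removeNth v)) := by
        rw [Finset.mul_sum, ← Finset.sum_sub_distrib]
        exact Finset.sum_congr rfl fun i _ => by ring
      rw [h1, h0, zero_sub]
      exact Ideal.neg_mem_iff _ |>.mpr (Ideal.sum_mem _ fun i _ => Ideal.mul_mem_left _ _ (hc _))
    · have h1 := hc m
      rw [wedge_apply, Fin.sum_univ_succ] at h1
      let a : Fin (p + 1) → R := Fin.cons (c' (fun i => m i.succ) - c m)
        (fun i => (-1) ^ ((i : ℕ) + 1) * c' (Fin.removeNth i.succ m))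
      have h2 : ∑ i, a i * h (m i) ∈ J := by
        convert h1 using 1
        rw [Fin.sum_univ_succ]
        simp only [a, Fin.cons_zero, Fin.cons_succ, Fin.val_zero, pow_zero, one_mul, Fin.val_succ]
        have : Fin.removeNth 0 m = fun i => m i.succ := by
          ext i; simp [Fin.removeNth]
        rw [this]
        have h3 : ∀ i : Fin p, (-1) ^ ((i : ℕ) + 1) * c' (Fin.removeNth i.succ m) * h (m i.succ) =
            (-1) ^ ((i : ℕ) + 1) * (h (m i.succ) * c' (Fin.removeNth i.succ m)) := fun i => by ring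
        simp only [h3]
        ring
      have h4 := WReg.coeff_mem (g := fun i => h (m i)) hreg a h2
      have h5 : J ⊔ Ideal.span (Set.range fun i : Fin p => h (m i.succ)) ≤
          J ⊔ Ideal.span (Set.range fun i : Fin (p + 1) => h (m i)) := by
        apply sup_le_sup_left
        apply Ideal.span_mono
        rintro _ ⟨i, rfl⟩
        exact ⟨i.succ, rfl⟩
      have h6 := h5 h4
      simp only [a, Fin.cons_zero] at h6
      have := Ideal.sub_mem _ hx' h6
      have h7 : c m - x = (c' (fun i => m i.succ) - x) - (c' (fun i => m i.succ) - c m) := by ring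
      rw [h7]
      exact this

/-- **Linkage lemma** (Wiebe), element form: `f = M h` with `f` weakly regular; then
`(f) : (h) ≤ (f) + (det M)`.  No hypothesis on `h` or on the ring. -/
theorem mem_sup_det {n : ℕ} (f h : Fin n → R) (M : Matrix (Fin n) (Fin n) R)
    (hM : ∀ i, f i = ∑ j, M i j * h j) (hf : WReg ⊥ f) (x : R)
    (hx : ∀ j, x * h j ∈ Ideal.span (Set.range f)) :
    x ∈ Ideal.span (Set.range f) ⊔ Ideal.span {M.det} := by
  let hl : (Fin n → R) →ₗ[R] R := Fintype.linearCombination R h
  have hrow : ∀ i, hl (M i) = f i := fun i => by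
    simp [hl, Fintype.linearCombination_apply, hM i]
  have hfun : (fun i => hl (M i)) = f := funext hrow
  obtain ⟨c, -, hc⟩ := exists_form hl ⊥ (fun i => M i) (by rw [hfun]; exact hf) x (by
    intro v
    rw [hfun, bot_sup_eq]
    have : x * hl v = ∑ j, v j * (x * h j) := by
      simp only [hl, Fintype.linearCombination_apply, smul_eq_mul, Finset.mul_sum]
      exact Finset.sum_congr rfl fun j _ => by ring
    rw [this]
    exact Ideal.sum_mem _ fun j _ => Ideal.mul_mem_left _ _ (hx j))
  rw [hfun, bot_sup_eq] at hc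
  have h1 : c (fun i => M i) = c (Pi.basisFun R (Fin n)) * M.det := by
    conv_lhs => rw [c.eq_smul_basis_det (Pi.basisFun R (Fin n))]
    rw [AlternatingMap.smul_apply, Pi.basisFun_det_apply, smul_eq_mul]
    rfl
  have h2 : x = c (Pi.basisFun R (Fin n)) * M.det - (c (fun i => M i) - x) := by rw [h1]; ring
  rw [h2]
  refine Ideal.sub_mem _ (Ideal.mem_sup_right (Ideal.mul_mem_left _ _ (Ideal.mem_span_singleton_self _)))
    (Ideal.mem_sup_left hc)

/-- Mathlib's weakly regular sequences. -/
theorem wReg_of_isWeaklyRegular : ∀ {n : ℕ} (f : Fin n → R)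
    (_ : RingTheory.Sequence.IsWeaklyRegular R (List.ofFn f)), WReg ⊥ f := by
  intro n f hf k z hz
  rw [bot_sup_eq] at hz ⊢
  have h1 := ((RingTheory.Sequence.isWeaklyRegular_iff_Fin R (List.ofFn f)).mp hf)
    ⟨k, by simp⟩
  have hset : Ideal.ofList (List.take (k : ℕ) (List.ofFn f)) =
      Ideal.span {y | ∃ i, i < k ∧ f i = y} := by
    unfold Ideal.ofList
    congr 1
    ext y
    simp only [Set.mem_ofPred_eq, List.mem_take_iff_getElem, List.getElem_ofFn, List.length_ofFn]
    constructor
    · rintro ⟨i, hi, rfl⟩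
      exact ⟨⟨i, by omega⟩, by rw [Fin.lt_def]; simp; omega, rfl⟩
    · rintro ⟨i, hi, rfl⟩
      exact ⟨i, by rw [Fin.lt_def] at hi; omega, rfl⟩
  rw [hset] at h1
  have h2 : IsSMulRegular (R ⧸ (Ideal.span {y | ∃ i, i < k ∧ f i = y} • ⊤ : Submodule R R)) (f k) := by
    simpa using h1
  have h3 := h2 (a₁ := Submodule.Quotient.mk z) (a₂ := 0) (by
    simp only [smul_zero]
    rw [← Submodule.Quotient.mk_smul, Submodule.Quotient.mk_eq_zero]
    simpa using hz)
  rw [Submodule.Quotient.mk_eq_zero] at h3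
  simpa using h3

/-- **Linkage lemma** (Wiebe): `(f) : (h) = (f) + (det M)`. -/
theorem colon_le {n : ℕ} (f h : Fin n → R) (M : Matrix (Fin n) (Fin n) R)
    (hM : ∀ i, f i = ∑ j, M i j * h j)
    (hf : RingTheory.Sequence.IsWeaklyRegular R (List.ofFn f)) (x : R)
    (hx : ∀ j, x * h j ∈ Ideal.span (Set.range f)) :
    x ∈ Ideal.span (Set.range f) ⊔ Ideal.span {M.det} :=
  mem_sup_det f h M hM (wReg_of_isWeaklyRegular f hf) x hx

end Groth.Agent.Ega1.Linkage
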