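import Groth.Agent.Ega1.PtOpen
import Groth.Agent.S1772
import Groth.Agent.S0364
import Groth.Agent.LoccohB.RAdjFin
import Groth.Agent.LoccohB.RAdj
import Mathlib.AlgebraicGeometry.Morphisms.Proper
import Mathlib.AlgebraicGeometry.Noetherian

/-!
# The right adjoint of `Rf_*` at closed points, `f` proper

For `f : X ⟶ Y` proper, `L` universal for `(f, K)`, `x ∈ Spec B ⊆ X` a closed point of `X`, and
`f x ∈ Spec R ⊆ Y`: `RHom_B(κ(x), ω_B) ≅ RHom_R(κ(x), ω_R)` where `L|_{Spec B} = ω_B~` and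
`K|_{Spec R} = ω_R~`.  If `ω_R` is dualizing then `Hom(κ(x), ω_B[i])` is `κ(x)` for exactly one `i`.
-/

set_option autoImplicit false

universe u

open CategoryTheory CategoryTheory.Limits AlgebraicGeometry

attribute [local instance] HasDerivedCategory.standard

namespace Groth.Agent.Ega1.PtUniv

open Groth.Agent.Dcoh.DerSch Groth.Agent.Ega1.ADualUniv Groth.Agent.LoccohB
open Groth.Agent.PerfA.Restrict (restrictD)

section Iso

variable {X Y : Scheme.{u}} (f : X ⟶ Y) [IsProper f] [DCoh.HasRpush f]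
  {K : DCoh.D Y} {L : DCoh.D X}
  {B R κ : CommRingCat.{u}} (jB : Spec B ⟶ X) [IsOpenImmersion jB] (jR : Spec R ⟶ Y)
  [IsOpenImmersion jR] (ψ : B ⟶ κ) (φ : R ⟶ κ)
  [PreservesFiniteLimits (tilde.functor B)] [PreservesFiniteLimits (tilde.functor R)]
  [PreservesFiniteLimits (tilde.functor κ)]

/-- `RHom_B(κ, ω_B) ≅ RHom_R(κ, ω_R)`. -/
theorem exists_radj_iso (h : Univ f K L) (hκ : IsField κ)
    (hc : Spec.map ψ ≫ jB ≫ f = Spec.map φ ≫ jR)
    (hcl : IsClosed (Set.range (Spec.map ψ ≫ jB)))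
    {ωB : Dual.D B} (eB : Nonempty ((restrictD jB).obj L ≅ (DCoh.tildeD B).obj ωB))
    {ωR : Dual.D R} (eR : Nonempty ((restrictD jR).obj K ≅ (DCoh.tildeD R).obj ωR))
    {Gψ : Dual.D B ⥤ Dual.D κ} (adjψ : DRing.restrictD ψ.hom ⊣ Gψ)
    {Gφ : Dual.D R ⥤ Dual.D κ} (adjφ : DRing.restrictD φ.hom ⊣ Gφ) :
    Nonempty (Gψ.obj ωB ≅ Gφ.obj ωR) := by
  obtain ⟨eB⟩ := eB
  obtain ⟨eR⟩ := eR
  let := hκ.toField
  have hs : Subsingleton (Spec κ) := inferInstanceAs (Subsingleton (PrimeSpectrum κ))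
  have hr : ∀ {Z W : Scheme.{u}} (g : Z ⟶ W), DCoh.HasRpush g := fun g => hasRpush g
  have p1 := preservesFiniteColimits_point (Spec.map ψ)
  have p2 := preservesFiniteColimits_point (Spec.map φ)
  have u1 := (univ_spec ψ (tildeDPushIso ψ) adjψ ωB).of_iso_right eB.symm
  have u2 := (univ_spec φ (tildeDPushIso φ) adjφ ωR).of_iso_right eR.symm
  have v1 := univ_open (Spec.map ψ) jB rfl hcl u1
  have hcl2 : IsClosed (Set.range ((Spec.map ψ ≫ jB) ≫ f)) := by
    have : Set.range ((Spec.map ψ ≫ jB) ≫ f) = f '' Set.range (Spec.map ψ ≫ jB) := by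
      rw [← Set.range_comp]
      rfl
    rw [this]
    exact f.isClosedMap _ hcl
  have v2 := univ_open (Spec.map φ) jR (gj := (Spec.map ψ ≫ jB) ≫ f)
    (by rw [Category.assoc]; exact hc.symm) hcl2 u2
  have : IsNoetherianRing κ := inferInstance
  have : QuasiCompact (Spec.map ψ ≫ jB) := inferInstance
  have : QuasiSeparated (Spec.map ψ ≫ jB) := inferInstance
  obtain ⟨ε⟩ := univ_comp_iso (Spec.map ψ ≫ jB) f h v1 v2
  obtain ⟨hfull, hfaith, -⟩ := S0997.result κ
  exact ⟨(DCoh.tildeD κ).preimageIso ε⟩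

end Iso

section Data

variable {X Y : Scheme.{u}} (f : X ⟶ Y) [IsProper f]
  {B R κ : CommRingCat.{u}} (jB : Spec B ⟶ X) [IsOpenImmersion jB] (jR : Spec R ⟶ Y)
  [IsOpenImmersion jR] (ψ : B ⟶ κ)

/-- The residue field at a closed point of `X` is finite over the base ring. -/
theorem exists_finite_map (hκ : IsField κ) (hψ : Function.Surjective ψ.hom)
    (hcl : IsClosed (Set.range (Spec.map ψ ≫ jB)))
    (hR : Set.range ((Spec.map ψ ≫ jB) ≫ f) ⊆ Set.range jR) :
    ∃ φ : R ⟶ κ, Spec.map ψ ≫ jB ≫ f = Spec.map φ ≫ jR ∧ φ.hom.Finite := by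
  have hci : IsClosedImmersion (Spec.map ψ) := IsClosedImmersion.spec_of_surjective _ hψ
  have hpi : IsPreimmersion (Spec.map ψ ≫ jB) := inferInstance
  have : IsClosedImmersion (Spec.map ψ ≫ jB) := IsClosedImmersion.of_isPreimmersion _ hcl
  have : IsProper ((Spec.map ψ ≫ jB) ≫ f) := inferInstance
  let l : Spec κ ⟶ Spec R := IsOpenImmersion.lift jR ((Spec.map ψ ≫ jB) ≫ f) hR
  have hl : l ≫ jR = (Spec.map ψ ≫ jB) ≫ f := IsOpenImmersion.lift_fac _ _ _
  have : IsProper (l ≫ jR) := by rw [hl]; infer_instance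
  have : IsProper l := IsProper.of_comp l jR
  have : IsFinite l := IsFinite.iff_isProper_and_isAffineHom.2 ⟨inferInstance, inferInstance⟩
  refine ⟨Spec.preimage l, ?_, ?_⟩
  · rw [Spec.map_preimage, hl, Category.assoc]
  · rw [← IsFinite.SpecMap_iff, Spec.map_preimage]
    infer_instance

end Data

end Groth.Agent.Ega1.PtUniv
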