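import Groth.Agent.Ega1.PtCrit

/-!
# The one-dimensionality of `Hom(κ(x), f^! K[i])` at closed points

`point_crit`: for `f : X ⟶ Y` proper, `L` universal for `(f, K)`, `m ⊂ B` maximal giving a closed point of
`X`, `Hom_B(B/m, ω_B[i])` is `B/m` for exactly one `i = d`, and `0` otherwise; `a ≤ d ≤ b` if the dualizing
complex `ω_R` has injective dimension in `[a, b]`.
-/

set_option autoImplicit false

universe u

open CategoryTheory CategoryTheory.Limits AlgebraicGeometry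

attribute [local instance] HasDerivedCategory.standard

namespace Groth.Agent.Ega1.PtUniv

open Groth.Agent.Dcoh.DerSch Groth.Agent.Ega1.ADualUniv Groth.Agent.LoccohB
open Groth.Agent.PerfA.Restrict (restrictD)

section Alg

/-- A dualizing complex over a field is one-dimensional, in one degree. -/
theorem field_case {κ : Type u} [CommRing κ] (hκ : IsField κ) (N : Dual.D κ)
    (hN : Dual.IsDualizing κ N) : ∃ d : ℤ, (∀ i : ℤ, i ≠ d → Subsingleton (Dual.HD κ N i)) ∧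
      Nonempty (Dual.HD κ N d ≃ₗ[κ] κ) := by
  have := hN.isNoetherianRing
  let := hκ.toField
  have hmax : (⊥ : Ideal κ).IsMaximal := Ideal.bot_isMaximal
  obtain ⟨d, h1, ⟨h2⟩⟩ := S0364.result κ N hN ⊥
  let q : (κ ⧸ (⊥ : Ideal κ)) ≃ₗ[κ] κ := Submodule.quotEquivOfEqBot ⊥ rfl
  let e : ∀ i : ℤ, (Dual.inD κ (κ ⧸ (⊥ : Ideal κ)) ⟶ N⟦i⟧) ≃ₗ[κ] Dual.HD κ N i := fun i =>
    Linear.homCongr κ ((DerivedCategory.singleFunctor (ModuleCat.{u} κ) 0).mapIso q.toModuleIso)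
      (Iso.refl _) ≪≫ₗ HomBC.homShiftEquivHD i N
  exact ⟨d, fun i hi => (e i).symm.toEquiv.subsingleton_congr.2 (h1 i hi),
    ⟨(e d).symm ≪≫ₗ h2 ≪≫ₗ q⟩⟩

variable {B : Type u} [CommRing B] (m : Ideal B)

/-- `H^i(RHom_B(B/m, ω)) = Hom(B/m, ω[i])`. -/
theorem exists_hdEquiv {G : Dual.D B ⥤ Dual.D (B ⧸ m)}
    (adj : DRing.restrictD (Ideal.Quotient.mk m) ⊣ G) (ω : Dual.D B) (i : ℤ) :
    ∃ e : Dual.HD (B ⧸ m) (G.obj ω) i ≃+ (Dual.inD B (B ⧸ m) ⟶ ω⟦i⟧),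
      ∀ (b : B) (x : Dual.HD (B ⧸ m) (G.obj ω) i), e ((Ideal.Quotient.mk m b) • x) = b • e x := by
  let q : ((ModuleCat.restrictScalars.{u} (Ideal.Quotient.mk m)).obj
      (ModuleCat.of (B ⧸ m) (B ⧸ m))) ≃ₗ[B] (B ⧸ m) :=
    { AddEquiv.refl (B ⧸ m) with
      map_smul' := fun b x => by
        obtain ⟨y, rfl⟩ := Ideal.Quotient.mk_surjective x
        rfl }
  let L := Linear.homCongr B ((DerivedCategory.singleFunctor (ModuleCat.{u} B) 0).mapIso
    (q.toModuleIso (X₁ := (ModuleCat.restrictScalars.{u} (Ideal.Quotient.mk m)).obj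
      (ModuleCat.of (B ⧸ m) (B ⧸ m))) (X₂ := ModuleCat.of B (B ⧸ m)))) (Iso.refl (ω⟦i⟧))
  refine ⟨(RAdjFin.hdRadjEquiv adj ω i).trans L.toAddEquiv, fun b x => ?_⟩
  change L (RAdjFin.hdRadjEquiv adj ω i _) = b • L (RAdjFin.hdRadjEquiv adj ω i x)
  rw [RAdjFin.hdRadjEquiv_smul, map_smul]

/-- If `RHom_B(B/m, ω)` is dualizing over `B/m` then `Hom(B/m, ω[i])` is `B/m` for one `i` and zero
otherwise. -/
theorem crit_of_dualizing [hm : m.IsMaximal] {G : Dual.D B ⥤ Dual.D (B ⧸ m)}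
    (adj : DRing.restrictD (Ideal.Quotient.mk m) ⊣ G) (ω : Dual.D B)
    (h : Dual.IsDualizing (B ⧸ m) (G.obj ω)) :
    ∃ d : ℤ, (∀ i : ℤ, i ≠ d → Subsingleton (Dual.inD B (B ⧸ m) ⟶ ω⟦i⟧)) ∧
      Nonempty ((Dual.inD B (B ⧸ m) ⟶ ω⟦d⟧) ≃ₗ[B] (B ⧸ m)) ∧
      Nontrivial (Dual.HD (B ⧸ m) (G.obj ω) d) := by
  have hκ : IsField (B ⧸ m) := (Ideal.Quotient.maximal_ideal_iff_isField_quotient m).1 hm
  obtain ⟨d, h1, ⟨q⟩⟩ := field_case hκ _ h
  obtain ⟨e, he⟩ := exists_hdEquiv m adj ω d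
  refine ⟨d, fun i hi => ?_, ⟨LinearEquiv.symm
    { (q.symm.toAddEquiv.trans e) with
      map_smul' := fun b x => ?_ }⟩, ?_⟩
  · obtain ⟨e', -⟩ := exists_hdEquiv m adj ω i
    exact e'.toEquiv.subsingleton_congr.1 (h1 i hi)
  · change e (q.symm (b • x)) = b • e (q.symm x)
    have hb : b • x = (Ideal.Quotient.mk m b) • x := by
      obtain ⟨y, rfl⟩ := Ideal.Quotient.mk_surjective x
      rfl
    rw [hb, map_smul, he]
  · have : Nontrivial (B ⧸ m) := hκ.nontrivial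
    exact q.toEquiv.nontrivial

end Alg

section Main

variable {X Y : Scheme.{u}} (f : X ⟶ Y) [IsProper f] [DCoh.HasRpush f]
  {K : DCoh.D Y} {L : DCoh.D X} {B R : Type u} [CommRing B] [CommRing R]
  (jB : Spec (CommRingCat.of B) ⟶ X) [IsOpenImmersion jB] (jR : Spec (CommRingCat.of R) ⟶ Y)
  [IsOpenImmersion jR] [∀ (R : CommRingCat.{u}), PreservesFiniteLimits (tilde.functor R)]

/-- The criterion at a closed point. -/
theorem point_crit (h : Univ f K L) (m : Ideal B) [hm : m.IsMaximal]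
    (hcl : IsClosed ({jB ⟨m, hm.isPrime⟩} : Set X))
    (hR : f (jB ⟨m, hm.isPrime⟩) ∈ Set.range jR)
    {ωB : Dual.D B} (eB : Nonempty ((restrictD jB).obj L ≅ (DCoh.tildeD (CommRingCat.of B)).obj ωB))
    {ωR : Dual.D R} (eR : Nonempty ((restrictD jR).obj K ≅ (DCoh.tildeD (CommRingCat.of R)).obj ωR))
    (hωR : Dual.IsDualizing R ωR) (a b : ℤ)
    (hab : ∀ (M : Type u) [AddCommGroup M] [Module R M] (i : ℤ), (i < a ∨ b < i) →
      Subsingleton (Dual.inD R M ⟶ ωR⟦i⟧)) :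
    ∃ d : ℤ, a ≤ d ∧ d ≤ b ∧ (∀ i : ℤ, i ≠ d → Subsingleton (Dual.inD B (B ⧸ m) ⟶ ωB⟦i⟧)) ∧
      Nonempty ((Dual.inD B (B ⧸ m) ⟶ ωB⟦d⟧) ≃ₗ[B] (B ⧸ m)) := by
  have hκ : IsField (B ⧸ m) := (Ideal.Quotient.maximal_ideal_iff_isField_quotient m).1 hm
  let κ : CommRingCat.{u} := CommRingCat.of (B ⧸ m)
  let ψ : CommRingCat.of B ⟶ κ := CommRingCat.ofHom (Ideal.Quotient.mk m)
  have hκ' : IsField κ := hκ
  have hsub : Subsingleton (Spec κ) := by
    let := hκ'.toField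
    exact inferInstanceAs (Subsingleton (PrimeSpectrum κ))
  have hne : Nonempty (Spec κ) := by
    let := hκ'.toField
    exact inferInstanceAs (Nonempty (PrimeSpectrum κ))
  have hpt : ∀ z : Spec κ, (Spec.map ψ) z = (⟨m, hm.isPrime⟩ : PrimeSpectrum B) := by
    intro z
    apply PrimeSpectrum.ext
    change Ideal.comap (Ideal.Quotient.mk m) (z : PrimeSpectrum κ).asIdeal = m
    let := hκ'.toField
    have hz : (z : PrimeSpectrum κ).asIdeal = ⊥ := by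
      rcases Ideal.eq_bot_or_top (z : PrimeSpectrum κ).asIdeal with h | h
      · exact h
      · exact ((z : PrimeSpectrum κ).isPrime.ne_top h).elim
    rw [hz]
    exact Ideal.mk_ker
  have hrange : Set.range (Spec.map ψ ≫ jB) = {jB ⟨m, hm.isPrime⟩} := by
    ext x
    simp only [Set.mem_range, Set.mem_singleton_iff]
    constructor
    · rintro ⟨z, rfl⟩
      rw [Scheme.Hom.comp_apply, hpt z]
    · rintro rfl
      obtain ⟨z⟩ := hne
      exact ⟨z, by rw [Scheme.Hom.comp_apply, hpt z]⟩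
  have hcl' : IsClosed (Set.range (Spec.map ψ ≫ jB)) := by rw [hrange]; exact hcl
  have hR' : Set.range ((Spec.map ψ ≫ jB) ≫ f) ⊆ Set.range jR := by
    rintro _ ⟨z, rfl⟩
    rw [Scheme.Hom.comp_apply, Scheme.Hom.comp_apply, hpt z]
    exact hR
  obtain ⟨φ, hc, hφ⟩ := exists_finite_map f jB jR ψ hκ' Ideal.Quotient.mk_surjective hcl' hR'
  obtain ⟨ε⟩ := exists_radj_iso f jB jR ψ φ h hκ' hc hcl' eB eR (RAdj.coextAdj ψ.hom)
    (RAdj.coextAdj φ.hom)
  have := hωR.isNoetherianRing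
  have hκN : IsNoetherianRing (B ⧸ m) := by
    let := hκ.toField
    infer_instance
  have hd : Dual.IsDualizing (B ⧸ m) ((RAdj.RCoext φ.hom).obj ωR) := by
    algebraize [φ.hom]
    have : Module.Finite R (B ⧸ m) := hφ
    exact S1772.result R (B ⧸ m) (RAdj.RCoext φ.hom) (RAdj.coextAdj φ.hom) ωR hωR
  have hd' : Dual.IsDualizing (B ⧸ m) ((RAdj.RCoext ψ.hom).obj ωB) :=
    HomBC.isDualizing_of_iso ε.symm hd
  obtain ⟨d, h1, h2, h3⟩ := crit_of_dualizing m (RAdj.coextAdj (Ideal.Quotient.mk m)) ωB hd'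
  have key : ¬ (d < a ∨ b < d) := by
    intro hab'
    have h4 : Subsingleton (Dual.HD (B ⧸ m) ((RAdj.RCoext φ.hom).obj ωR) d) :=
      (RAdjFin.hdRadjEquiv (RAdj.coextAdj φ.hom) ωR d).toEquiv.subsingleton_congr.2
        (hab ((ModuleCat.restrictScalars.{u} φ.hom).obj (ModuleCat.of (B ⧸ m) (B ⧸ m))) d hab')
    have h5 : Subsingleton (Dual.HD (B ⧸ m) ((RAdj.RCoext ψ.hom).obj ωB) d) :=
      (((DerivedCategory.homologyFunctor (ModuleCat.{u} (B ⧸ m)) d).mapIso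
        ε).toLinearEquiv.toEquiv.subsingleton_congr).2 h4
    exact not_subsingleton_iff_nontrivial.2 h3 h5
  push Not at key
  exact ⟨d, key.1, key.2, h1, h2⟩

end Main

end Groth.Agent.Ega1.PtUniv
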