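import Groth.Agent.Ega1.PtUniv
import Groth.Agent.PerfC.ExtZeroD
import Groth.Agent.PerfB.OpenAdj
import Groth.Agent.LoccohB.RpushTri
import Groth.Agent.S0998
import Groth.Agent.S0922

/-!
# Universal objects and open immersions, for objects with closed support

`univ_open`: for `g : Z ⟶ V`, `j : V ⟶ Y` an open immersion such that the image of `Z` in `Y` is closed,
an object which is universal for `(g, K|_V)` is universal for `(g ≫ j, K)`.
-/

set_option autoImplicit false

universe u

open CategoryTheory CategoryTheory.Limits AlgebraicGeometry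

attribute [local instance] HasDerivedCategory.standard

namespace Groth.Agent.Ega1.PtUniv

open Groth.Agent.Dcoh.DerSch Groth.Agent.Ega1.ADualUniv Groth.Agent.LoccohB
open Groth.Agent.PerfA.Restrict (restrictD isZero_iff_stalk)
open Groth.Agent.PerfC.Supp Groth.Agent.PerfC.ExtZeroD Groth.Agent.PerfC.PcLocal

variable {X Y Z V : Scheme.{u}}

lemma isZero_of_isEmpty (h : IsEmpty X) (K : DCoh.D X) : IsZero K := by
  rw [PerfA.ExactD.isZero_iff]
  intro i
  rw [isZero_iff_stalk]
  intro x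
  exact h.elim x

/-- `Rf_* N` is supported on the image of `f`, if that is closed. -/
lemma supp_Rpush_subset (f : Z ⟶ Y) [DCoh.HasRpush f] (hcl : IsClosed (Set.range f))
    (N : DCoh.D Z) (i : ℤ) : supp ((DCoh.Rpush f).obj N) i ⊆ Set.range f := by
  let W : Y.Opens := ⟨(Set.range f)ᶜ, hcl.isOpen_compl⟩
  have hp := (isPullback_morphismRestrict f W).flip
  have : DCoh.HasRpush (f ∣_ W) := hasRpush _
  obtain ⟨β⟩ := exists_rpushRestrictIso f (f ∣_ W) (f ⁻¹ᵁ W).ι W.ι hp
  have hE : IsEmpty (f ⁻¹ᵁ W : Z.Opens) := ⟨fun z => z.2 ⟨z.1, rfl⟩⟩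
  have hz : IsZero ((restrictD W.ι).obj ((DCoh.Rpush f).obj N)) := by
    refine IsZero.of_iso ?_ (β.app N)
    have : (DCoh.Rpush (f ∣_ W)).PreservesZeroMorphisms := by
      obtain ⟨_, _, -⟩ := RpushTri.exists_isTriangulated_Rpush (f ∣_ W)
      infer_instance
    exact (DCoh.Rpush (f ∣_ W)).map_isZero (isZero_of_isEmpty hE _)
  intro y hy
  by_contra hyf
  have h1 := supp_zero hz i
  rw [supp_restrictD] at h1
  have : (⟨y, hyf⟩ : W) ∈ W.ι ⁻¹' supp ((DCoh.Rpush f).obj N) i := hy
  rw [h1] at this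
  exact this

variable (g : Z ⟶ V) (j : V ⟶ Y) [IsOpenImmersion j] {gj : Z ⟶ Y}

/-- An object universal for `(g, K|_V)` is universal for `(g ≫ j, K)`, if the image of `g ≫ j` is closed. -/
theorem univ_open (hgj : g ≫ j = gj) [DCoh.HasRpush g] [DCoh.HasRpush gj]
    (hcl : IsClosed (Set.range gj)) {K : DCoh.D Y} {L : DCoh.D Z}
    (h : Univ g ((restrictD j).obj K) L) : Univ gj K L := by
  have hp : IsPullback (𝟙 Z) g gj j := by
    subst hgj
    refine IsPullback.of_isLimit' ⟨by simp⟩ ?_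
    refine PullbackCone.IsLimit.mk _ (fun s => s.fst) (fun s => by simp) (fun s => ?_)
      (fun s m hm _ => by simpa using hm)
    rw [← cancel_mono j]
    simpa using s.condition
  obtain ⟨β'⟩ := exists_rpushRestrictIso gj g (𝟙 Z) j hp
  let β : DCoh.Rpush gj ⋙ restrictD j ≅ DCoh.Rpush g :=
    β' ≪≫ Functor.isoWhiskerRight (PerfA.ExactD.mapDIso (Scheme.Modules.restrictFunctorId (X := Z)) ≪≫
      PerfA.ExactD.mapDId Z.Modules) (DCoh.Rpush g) ≪≫ Functor.leftUnitor _
  have hsub : Set.range gj ⊆ Set.range j := by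
    rintro _ ⟨z, rfl⟩
    exact ⟨g z, by rw [← hgj]; rfl⟩
  have hbij : ∀ N : DCoh.D Z, Function.Bijective
      (fun u : (DCoh.Rpush gj).obj N ⟶ K => (restrictD j).map u) := fun N =>
    bijective_restrictD_map j _ K fun i => (supp_Rpush_subset gj hcl N i).trans hsub
  obtain ⟨τ, hτ⟩ := h
  obtain ⟨σ, hσ⟩ := (hbij L).2 (β.hom.app L ≫ τ)
  dsimp only at hσ
  refine ⟨σ, hτ.qcoh, fun N hN => ?_⟩
  have h1 := hτ.bij N hN
  have h2 : Function.Bijective (fun u : (DCoh.Rpush g).obj N ⟶ (restrictD j).obj K =>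
      β.hom.app N ≫ u) := ((β.app N).symm.homFromEquiv (Z := (restrictD j).obj K)).bijective
  refine (Function.Bijective.of_comp_iff' (hbij N) _).1 ?_
  convert h2.comp h1 using 1
  funext u
  simp only [Function.comp_apply, Functor.map_comp, hσ]
  have := β.hom.naturality u
  dsimp only [Functor.comp_map] at this
  rw [reassoc_of% this]

/-- Comparison of universal objects through a composition. -/
theorem univ_comp_iso (e : Z ⟶ X) [QuasiCompact e] [QuasiSeparated e] (f : X ⟶ Y)
    [DCoh.HasRpush e] [DCoh.HasRpush f] [DCoh.HasRpush (e ≫ f)] {K : DCoh.D Y} {L : DCoh.D X}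
    {M M' : DCoh.D Z} (hL : Univ f K L) (hM : Univ e L M) (hM' : Univ (e ≫ f) K M') :
    Nonempty (M ≅ M') := by
  obtain ⟨θ⟩ := S0922.result e f
  exact (Univ.comp θ.symm (fun N hN => S0998.result e N hN) hL hM).unique hM'

end Groth.Agent.Ega1.PtUniv
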