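import Groth.Agent.Ega1.ADualUniv
import Groth.Agent.Ega1.TildePullback
import Groth.Agent.PerfC.ClosedPush
import Groth.Agent.PerfC.LpullFlat
import Groth.Agent.PerfA.ExactD
import Groth.Agent.S0997

/-!
# Universal objects for affine morphisms with exact pushforward, one-point schemes

* `preservesFiniteColimits_point`: pushforward of modules along a morphism from a one-point scheme is
  exact;
* `tildePushIso φ : tilde S ⋙ (Spec φ)_* ≅ restrictScalars φ ⋙ tilde R`;
* `tildeDPushIso φ : tildeD S ⋙ R(Spec φ)_* ≅ restrictD φ ⋙ tildeD R` if `(Spec φ)_*` is exact;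
* `univ_spec`: the tilde of `R_φ(ω) = RHom_R(S, ω)` is universal for `(Spec φ, ω~)`.
-/

set_option autoImplicit false

universe u

open CategoryTheory CategoryTheory.Limits AlgebraicGeometry

attribute [local instance] HasDerivedCategory.standard

namespace Groth.Agent.Ega1.PtUniv

open Groth.Agent.Ega1.ADualUniv

section Point

variable {Z V : Scheme.{u}} (g : Z ⟶ V) [Subsingleton Z]

lemma preservesEpi_point : (Scheme.Modules.pushforward g).PreservesEpimorphisms where
  preserves {M N} φ hφ := by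
    refine PerfC.ClosedPush.epi_of_locally_surjective _ fun U s x hxU => ?_
    by_cases hx : ∃ z : Z, g z ∈ U
    · obtain ⟨z, hz⟩ := hx
      obtain ⟨W, hWU, t, hzW, ht⟩ := Groth.Agent.Dcoh.Restrict.exists_local_preimage φ (g ⁻¹ᵁ U)
        s z hz
      have hW : g ⁻¹ᵁ U ≤ W := fun y _ => by
        rw [Subsingleton.elim y z]; exact hzW
      refine ⟨U, le_rfl, M.presheaf.map (homOfLE hW).op t, hxU, ?_⟩
      change φ.app (g ⁻¹ᵁ U) (M.presheaf.map (homOfLE hW).op t) = _
      rw [Groth.Agent.Dcoh.Restrict.app_map_apply, ht, ← ConcreteCategory.comp_apply,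
        ← Functor.map_comp]
      rfl
    · have hV : g ⁻¹ᵁ U = ⊥ := by
        rw [eq_bot_iff]
        intro y hy
        exact (hx ⟨y, hy⟩).elim
      have := PerfC.ClosedPush.subsingleton_of_eq_bot N (g ⁻¹ᵁ U) hV
      refine ⟨U, le_rfl, 0, hxU, ?_⟩
      exact Subsingleton.elim (α := Γ(N, g ⁻¹ᵁ U)) _ _

/-- Pushforward along a morphism from a one-point scheme is exact. -/
lemma preservesFiniteColimits_point :
    PreservesFiniteColimits (Scheme.Modules.pushforward g) := by
  rw [Functor.preservesFiniteColimits_iff_forall_exact_map_and_epi]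
  intro S hS
  have := hS.epi_g
  exact ⟨((Functor.preservesFiniteLimits_iff_forall_exact_map_and_mono _).1 inferInstance S hS).1,
    (preservesEpi_point g).preserves S.g⟩

end Point

section Tilde

variable {R S : CommRingCat.{u}} (φ : R ⟶ S)

/-- Pushforward of a tilde module along `Spec S ⟶ Spec R` is the tilde of the restriction of
scalars. -/
noncomputable def tildePushIso :
    tilde.functor S ⋙ Scheme.Modules.pushforward (Spec.map φ) ≅
      ModuleCat.restrictScalars φ.hom ⋙ tilde.functor R :=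
  haveI : ∀ M : ModuleCat.{u} S, IsIso ((tilde.adjunction (R := R)).counit.app
      ((tilde.functor S ⋙ Scheme.Modules.pushforward (Spec.map φ)).obj M)) := fun M => by
    have : IsIso (Scheme.Modules.fromTildeΓ ((tilde.functor S).obj M)) :=
      isIso_fromTildeΓ_iff.2 ⟨M, ⟨Iso.refl _⟩⟩
    exact isIso_fromTildeΓ_pushforward φ _
  haveI : IsIso (Functor.whiskerLeft (tilde.functor S ⋙ Scheme.Modules.pushforward (Spec.map φ))
      (tilde.adjunction (R := R)).counit) := by
    have : ∀ M, IsIso ((Functor.whiskerLeft (tilde.functor S ⋙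
      Scheme.Modules.pushforward (Spec.map φ)) (tilde.adjunction (R := R)).counit).app M) :=
        fun M => this M
    exact NatIso.isIso_of_isIso_app _
  (asIso (Functor.whiskerLeft (tilde.functor S ⋙ Scheme.Modules.pushforward (Spec.map φ))
      (tilde.adjunction (R := R)).counit)).symm ≪≫
    Functor.isoWhiskerRight (Functor.isoWhiskerLeft (tilde.functor S)
      (TildePullback.pushforwardCompΓIso φ)) (tilde.functor R) ≪≫
    Functor.isoWhiskerRight ((Functor.isoWhiskerRight (tilde.toTildeΓNatIso (R := S)).symm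
      (ModuleCat.restrictScalars φ.hom))) (tilde.functor R)

/-- `R(Spec φ)_* M~ = (M as an R-module)~` if `(Spec φ)_*` is exact. -/
noncomputable def tildeDPushIso [PreservesFiniteLimits (tilde.functor R)]
    [PreservesFiniteLimits (tilde.functor S)]
    [PreservesFiniteColimits (Scheme.Modules.pushforward (Spec.map φ))]
    [DCoh.HasRpush (Spec.map φ)] :
    DCoh.tildeD S ⋙ DCoh.Rpush (Spec.map φ) ≅ DRing.restrictD φ.hom ⋙ DCoh.tildeD R :=
  haveI : (ModuleCat.restrictScalars φ.hom ⋙ tilde.functor R).Additive := inferInstance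
  haveI : PreservesFiniteLimits (ModuleCat.restrictScalars.{u} φ.hom ⋙ tilde.functor R) :=
    comp_preservesFiniteLimits _ _
  haveI : PreservesFiniteColimits (ModuleCat.restrictScalars.{u} φ.hom ⋙ tilde.functor R) :=
    comp_preservesFiniteColimits _ _
  Functor.isoWhiskerLeft _ (PerfC.LpullFlat.rpushIso (Spec.map φ)) ≪≫
    PerfA.ExactD.mapDComp (F := tilde.functor S) (G := Scheme.Modules.pushforward (Spec.map φ))
      (H := ModuleCat.restrictScalars.{u} φ.hom ⋙ tilde.functor R) (tildePushIso φ) ≪≫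
    (PerfA.ExactD.mapDComp (F := ModuleCat.restrictScalars.{u} φ.hom) (G := tilde.functor R)
      (H := ModuleCat.restrictScalars.{u} φ.hom ⋙ tilde.functor R) (Iso.refl _)).symm

variable [PreservesFiniteLimits (tilde.functor R)] [PreservesFiniteLimits (tilde.functor S)]

/-- `RHom_R(S, ω)~` is universal for `(Spec S ⟶ Spec R, ω~)`, given an isomorphism
`R(Spec φ)_* M~ ≅ (M|_R)~`. -/
theorem univ_spec [DCoh.HasRpush (Spec.map φ)]
    (θ : DCoh.tildeD S ⋙ DCoh.Rpush (Spec.map φ) ≅ DRing.restrictD φ.hom ⋙ DCoh.tildeD R)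
    {G : Dual.D R ⥤ Dual.D S} (adj : DRing.restrictD φ.hom ⊣ G) (ω : Dual.D R) :
    Univ (Spec.map φ) ((DCoh.tildeD R).obj ω) ((DCoh.tildeD S).obj (G.obj ω)) := by
  obtain ⟨hfull, hfaith, hess⟩ := S0997.result S
  obtain ⟨hfull', hfaith', hess'⟩ := S0997.result R
  have hq : ∀ M, DCoh.IsQCohD ((DCoh.tildeD S).obj M) := fun M => (hess _).2 ⟨M, ⟨Iso.refl _⟩⟩
  refine ⟨θ.hom.app (G.obj ω) ≫ (DCoh.tildeD R).map (adj.counit.app ω), hq _, fun N hN => ?_⟩
  obtain ⟨M, ⟨e⟩⟩ := (hess N).1 hN
  -- reduce to `N = M~`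
  suffices h : Function.Bijective (fun g : (DCoh.tildeD S).obj M ⟶ (DCoh.tildeD S).obj (G.obj ω) =>
      (DCoh.Rpush (Spec.map φ)).map g ≫ θ.hom.app (G.obj ω) ≫
        (DCoh.tildeD R).map (adj.counit.app ω)) by
    have h2 : Function.Bijective (fun g : N ⟶ (DCoh.tildeD S).obj (G.obj ω) => e.hom ≫ g) :=
      (e.symm.homFromEquiv (Z := (DCoh.tildeD S).obj (G.obj ω))).bijective
    have h3 : Function.Bijective (fun g : (DCoh.Rpush (Spec.map φ)).obj ((DCoh.tildeD S).obj M) ⟶
        (DCoh.tildeD R).obj ω => (DCoh.Rpush (Spec.map φ)).map e.inv ≫ g) :=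
      (((DCoh.Rpush (Spec.map φ)).mapIso e).homFromEquiv (Z := (DCoh.tildeD R).obj ω)).bijective
    convert h3.comp (h.comp h2) using 1
    funext g
    simp
  have h1 : Function.Bijective (fun g : M ⟶ G.obj ω => (DCoh.tildeD S).map g) :=
    ⟨fun _ _ h => (DCoh.tildeD S).map_injective h, fun g => (DCoh.tildeD S).map_surjective g⟩
  have h2 : Function.Bijective (fun g : (DRing.restrictD φ.hom).obj M ⟶ ω =>
      (DCoh.tildeD R).map g) :=
    ⟨fun _ _ h => (DCoh.tildeD R).map_injective h, fun g => (DCoh.tildeD R).map_surjective g⟩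
  have h3 := (adj.homEquiv M ω).symm.bijective
  have h4 : Function.Bijective (fun g : (DCoh.tildeD R).obj ((DRing.restrictD φ.hom).obj M) ⟶
      (DCoh.tildeD R).obj ω => θ.hom.app M ≫ g) :=
    ((θ.app M).symm.homFromEquiv (Z := (DCoh.tildeD R).obj ω)).bijective
  refine (Function.Bijective.of_comp_iff _ h1).1 ?_
  convert h4.comp (h2.comp h3) using 1
  funext g
  simp only [Function.comp_apply, Adjunction.homEquiv_counit, Functor.map_comp]
  have := θ.hom.naturality g
  dsimp only [Functor.comp_map] at this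
  exact (Category.assoc _ _ _).symm.trans
    ((congrArg (fun z => z ≫ (DCoh.tildeD R).map (adj.counit.app ω)) this).trans
      (Category.assoc _ _ _))

end Tilde

end Groth.Agent.Ega1.PtUniv
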