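import Groth.Agent.CohqA.FinSec
import Groth.Agent.Fdesc.QCohStalk
import Groth.Prelude.Def_CAlgX
import Mathlib.AlgebraicGeometry.Morphisms.FinitePresentation
import Mathlib.Algebra.Module.FinitePresentation
import Mathlib.RingTheory.Localization.BaseChange

/-!
# Stalks of finitely presented modules, stalk maps of locally finitely presented morphisms
-/

set_option autoImplicit false
universe u

open CategoryTheory CategoryTheory.Limits AlgebraicGeometry Opposite TopologicalSpace
open Groth.Agent.Fdesc.QCohStalk

namespace Groth.Agent.Ega1.StalkFP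

variable {X : Scheme.{u}}

/-- Near every point, the sections of a finitely presented module over small affine opens are
finitely presented. -/
theorem exists_affine_finitePresentation (F : X.Modules) (hq : Coh.IsQCoh F) (hfp : CohB1.IsFP F)
    (x : X) (O : X.Opens) (hxO : x ∈ O) :
    ∃ W : X.Opens, IsAffineOpen W ∧ x ∈ W ∧ W ≤ O ∧
      Module.FinitePresentation Γ(X, W) Γ(F, W) := by
  obtain ⟨U, hxU, hU⟩ := (Groth.Agent.CohqA.FinLocal.isFP_iff F).mp hfp x
  obtain ⟨_, ⟨W, hW, rfl⟩, hxW, hWU⟩ :=
    X.isBasis_affineOpens.exists_subset_of_mem_open (show x ∈ (U ⊓ O : X.Opens) from ⟨hxU, hxO⟩)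
      (U ⊓ O).isOpen
  refine ⟨W, hW, hxW, fun y hy => (hWU hy).2, ?_⟩
  exact (Groth.Agent.CohqA.AffSec.gfp_iff hW hq).mp
    (Groth.Agent.CohqA.FinSec.gfp_of_le (fun y hy => (hWU hy).1) hU)

/-- The stalk of a finitely presented quasi-coherent module is finitely presented. -/
theorem finitePresentation_stalk (F : X.Modules) (hq : Coh.IsQCoh F) (hfp : CohB1.IsFP F)
    (x : X) : Module.FinitePresentation (X.presheaf.stalk x) (F.presheaf.stalk x) := by
  obtain ⟨W, hW, hxW, -, hWfp⟩ := exists_affine_finitePresentation F hq hfp x ⊤ trivial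
  let : Algebra Γ(X, W) (X.presheaf.stalk x) := (X.presheaf.germ W x hxW).hom.toAlgebra
  let := stalkModule F x hxW
  have : IsScalarTower Γ(X, W) (X.presheaf.stalk x) (F.presheaf.stalk x) := ⟨fun a b m => by
    rw [Algebra.smul_def, mul_smul]; rfl⟩
  have h1 := hW.isLocalization_stalk ⟨x, hxW⟩
  have h2 := isLocalizedModule_germ F hW hq x hxW
  have h3 : IsBaseChange (X.presheaf.stalk x) (germₗ F x hxW) :=
    (isLocalizedModule_iff_isBaseChange (hW.primeIdealOf ⟨x, hxW⟩).asIdeal.primeCompl
      (X.presheaf.stalk x) (germₗ F x hxW)).mp h2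
  exact FinitePresentation.of_isBaseChange _ h3

section Ess

/-- Essential finite presentation as a property of ring homomorphisms. -/
def EssFP {R S : Type u} [CommRing R] [CommRing S] (f : R →+* S) : Prop :=
  @CAlgX.IsEssFinitePresentation R _ S _ f.toAlgebra

theorem essFP_respectsIso : RingHom.RespectsIso @EssFP := by
  constructor
  · intro R S T _ _ _ f e h
    algebraize [f]
    obtain ⟨S₀, _, _, _, _, M, h1, h2⟩ := h
    let : Algebra R T := (e.toRingHom.comp f).toAlgebra
    let : Algebra S₀ T := (e.toRingHom.comp (algebraMap S₀ S)).toAlgebra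
    have : IsScalarTower R S₀ T := IsScalarTower.of_algebraMap_eq fun r => by
      change e (f r) = e (algebraMap S₀ S (algebraMap R S₀ r))
      rw [← IsScalarTower.algebraMap_apply R S₀ S]
      rfl
    exact ⟨S₀, inferInstance, inferInstance, inferInstance, inferInstance, M, h1,
      (IsLocalization.isLocalization_iff_of_ringEquiv M e).mp h2⟩
  · intro R S T _ _ _ f e h
    algebraize [f]
    obtain ⟨S₀, _, _, _, _, M, h1, h2⟩ := h
    let : Algebra R T := (f.comp e.toRingHom).toAlgebra
    let : Algebra R S := e.toRingHom.toAlgebra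
    let : Algebra R S₀ := ((algebraMap S S₀).comp e.toRingHom).toAlgebra
    have : IsScalarTower R S S₀ := IsScalarTower.of_algebraMap_eq fun r => rfl
    have : IsScalarTower R S₀ T := IsScalarTower.of_algebraMap_eq fun r => by
      change f (e r) = algebraMap S₀ T (algebraMap S S₀ (e r))
      rw [← IsScalarTower.algebraMap_apply S S₀ T]
      rfl
    have h3 : Algebra.FinitePresentation R S :=
      Algebra.FinitePresentation.equiv (AlgEquiv.ofBijective (Algebra.ofId R S) e.bijective)
    exact ⟨S₀, inferInstance, inferInstance, inferInstance, inferInstance, M,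
      Algebra.FinitePresentation.trans R S S₀, h2⟩

theorem essFP_localRingHom {R S : Type u} [CommRing R] [CommRing S] (f : R →+* S)
    (hf : f.FinitePresentation) (J : Ideal S) (_ : J.IsPrime) :
    EssFP (Localization.localRingHom _ J f rfl) := by
  algebraize [f]
  let p := J.comap f
  have hpq : J.LiesOver p := ⟨rfl⟩
  let Rp := Localization.AtPrime p
  let Sp := Localization (Algebra.algebraMapSubmonoid S p.primeCompl)
  let Sq := Localization.AtPrime J
  let := Localization.AtPrime.algebraOfLiesOver p J
  let g : Sp →ₐ[S] Sq := IsLocalization.liftAlgHom (M := Algebra.algebraMapSubmonoid S p.primeCompl)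
        (f := Algebra.ofId _ _) (by
      rintro ⟨_, x, hx, rfl⟩
      simpa using! IsLocalization.map_units (M := J.primeCompl) Sq ⟨algebraMap _ _ x,
        by simp_all [J.over_def p]⟩)
  algebraize [g.toRingHom]
  have : IsScalarTower R Sp Sq := .to₁₃₄ _ S _ _
  have : IsScalarTower Rp Sp Sq := .of_algebraMap_eq' <| by
    apply IsLocalization.ringHom_ext p.primeCompl
    simp only [RingHom.comp_assoc, ← IsScalarTower.algebraMap_eq]
  have h2 : IsLocalization (Algebra.algebraMapSubmonoid Sp J.primeCompl) Sq :=
    .isLocalization_of_submonoid_le _ _ (Algebra.algebraMapSubmonoid S p.primeCompl) _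
    (by rintro _ ⟨x, hx, rfl⟩; simp_all [J.over_def p])
  have h1 : Algebra.FinitePresentation Rp Sp := by
    have : Algebra.IsPushout R Rp S Sp :=
      .symm <| Algebra.isPushout_of_isLocalization p.primeCompl _ _ _
    exact .equiv (Algebra.IsPushout.equiv R Rp S Sp)
  exact ⟨Sp, inferInstance, inferInstance, inferInstance, inferInstance,
    Algebra.algebraMapSubmonoid Sp J.primeCompl, h1, h2⟩

theorem essFP_stalkMap {X Y : Scheme.{u}} (f : X ⟶ Y) [LocallyOfFinitePresentation f] (x : X) :
    EssFP (f.stalkMap x).hom :=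
  HasRingHomProperty.stalkMap_of_respectsIso (P := @LocallyOfFinitePresentation)
    (Q' := @EssFP) essFP_respectsIso (fun f hf J hJ => essFP_localRingHom f hf J hJ) ‹_› x

end Ess

end Groth.Agent.Ega1.StalkFP
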