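import Groth.Agent.Ega1.SubOfMono

/-!
# A quasi-coherent module on a qcqs scheme is the filtered union of its quasi-coherent
submodules of finite type (Stacks 01PG)
-/

universe u

open AlgebraicGeometry CategoryTheory TopologicalSpace Opposite
open Groth.Agent.Ega1.SubSheaf Groth.Agent.Ega1.LocMod Groth.Agent.Ega1.QCohOfLoc
open Groth.Agent.Ega1.QCohFinite Groth.Agent.Ega1.SubExt Groth.Agent.Ega1.SubExtMain

namespace Groth.Agent.Ega1.SubUnion

variable {X : Scheme.{u}} {M : X.Modules}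

/-- The order on subsheaves. -/
instance instPartialOrderSub : PartialOrder (Sub M) where
  le N N' := ∀ U, N.obj U ≤ N'.obj U
  le_refl _ _ := le_rfl
  le_trans _ _ _ h h' U := (h U).trans (h' U)
  le_antisymm N N' h h' := Sub.ext (funext fun U ↦ le_antisymm (h U) (h' U))

lemma le_def {N N' : Sub M} : N ≤ N' ↔ ∀ U, N.obj U ≤ N'.obj U := Iff.rfl

/-- Sum of two subsheaves. -/
noncomputable def add (N N' : Sub M) : Sub M where
  obj U :=
    { carrier := {s | ∀ x ∈ U, ∃ (V : X.Opens) (hV : V ≤ U), x ∈ V ∧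
        res M hV s ∈ N.obj V ⊔ N'.obj V}
      add_mem' := by
        intro a b ha hb x hx
        obtain ⟨V, hV, hxV, h⟩ := ha x hx
        obtain ⟨V', hV', hxV', h'⟩ := hb x hx
        refine ⟨V ⊓ V', inf_le_left.trans hV, ⟨hxV, hxV'⟩, ?_⟩
        have key : ∀ (A B : X.Opens) (hBA : B ≤ A) (c : Γ(M, A)),
            c ∈ N.obj A ⊔ N'.obj A → res M hBA c ∈ N.obj B ⊔ N'.obj B := by
          intro A B hBA c hc
          obtain ⟨y, hy, z, hz, rfl⟩ := Submodule.mem_sup.mp hc
          rw [map_add]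
          exact Submodule.add_mem_sup (N.map_mem hBA hy) (N'.map_mem hBA hz)
        have h1 := key V (V ⊓ V') inf_le_left _ h
        have h2 := key V' (V ⊓ V') inf_le_right _ h'
        rw [res_res] at h1 h2
        rw [map_add]
        exact Submodule.add_mem _ h1 h2
      zero_mem' := fun x hx ↦ ⟨U, le_rfl, hx, by rw [map_zero]; exact Submodule.zero_mem _⟩
      smul_mem' := fun c s hs x hx ↦ by
        obtain ⟨V, hV, hxV, h⟩ := hs x hx
        exact ⟨V, hV, hxV, by rw [res_smul]; exact Submodule.smul_mem _ _ h⟩ }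
  map_mem {U U'} h {s} hs x hx := by
    obtain ⟨V, hV, hxV, h1⟩ := hs x (h hx)
    refine ⟨V ⊓ U', inf_le_right, ⟨hxV, hx⟩, ?_⟩
    obtain ⟨y, hy, z, hz, hyz⟩ := Submodule.mem_sup.mp h1
    rw [res_res]
    have h2 : res M ((inf_le_left : V ⊓ U' ≤ V).trans hV) s =
        res M (inf_le_left : V ⊓ U' ≤ V) y + res M (inf_le_left : V ⊓ U' ≤ V) z := by
      rw [← map_add, hyz, res_res]
    rw [h2]
    exact Submodule.add_mem_sup (N.map_mem _ hy) (N'.map_mem _ hz)
  local_mem {U} s h x hx := by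
    obtain ⟨V, hV, hxV, hs⟩ := h x hx
    obtain ⟨V', hV', hxV', h1⟩ := hs x hxV
    exact ⟨V', hV'.trans hV, hxV', by rwa [res_res] at h1⟩

lemma mem_add {N N' : Sub M} {U : X.Opens} {s : Γ(M, U)} :
    s ∈ (add N N').obj U ↔ ∀ x ∈ U, ∃ (V : X.Opens) (hV : V ≤ U), x ∈ V ∧
        res M hV s ∈ N.obj V ⊔ N'.obj V := Iff.rfl

lemma le_add_left (N N' : Sub M) : N ≤ add N N' := fun U _ hs _ hx ↦
  ⟨U, le_rfl, hx, Submodule.mem_sup_left (N.map_mem _ hs)⟩

lemma le_add_right (N N' : Sub M) : N' ≤ add N N' := fun U _ hs _ hx ↦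
  ⟨U, le_rfl, hx, Submodule.mem_sup_right (N'.map_mem _ hs)⟩

lemma add_le {N N' N'' : Sub M} {V : X.Opens} (h : ∀ U ≤ V, N.obj U ≤ N''.obj U)
    (h' : ∀ U ≤ V, N'.obj U ≤ N''.obj U) {U : X.Opens} (hU : U ≤ V) :
    (add N N').obj U ≤ N''.obj U := by
  intro s hs
  refine N''.local_mem s fun x hx ↦ ?_
  obtain ⟨V', hV', hxV', h1⟩ := hs x hx
  exact ⟨V', hV', hxV', (sup_le (h V' (hV'.trans hU)) (h' V' (hV'.trans hU))) h1⟩

/-- Sum of good subsheaves is good. -/
lemma goodAt_add [M.IsQuasicoherent] {N N' : Sub M} {x : X} (h : GoodAt N x)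
    (h' : GoodAt N' x) : GoodAt (add N N') x := by
  obtain ⟨W₀, hxW₀, hW₀⟩ := h'
  obtain ⟨g, hxg, -, hg⟩ := h.exists_basicOpen hW₀.affine hxW₀ hxW₀
  have hg' := hW₀.basicOpen g
  set W := X.basicOpen g with hWdef
  let P : Submodule Γ(X, W) Γ(M, W) := N.obj W ⊔ N'.obj W
  have hP : P.FG := hg.fg.sup hg'.fg
  have hgood := goodOn_gen hg.affine P hP
  refine ⟨W, hxg, hgood.congr (V := W) (fun U hU ↦ le_antisymm ?_ ?_) le_rfl⟩
  · refine QC.le_of_le hg.affine hgood.qc ?_ hU
    rw [gen_self hg.affine]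
    exact sup_le (le_add_left N N' W) (le_add_right N N' W)
  · refine add_le (V := W) (fun U hU ↦ ?_) (fun U hU ↦ ?_) hU
    · refine QC.le_of_le hg.affine hg.qc ?_ hU
      rw [gen_self hg.affine]
      exact le_sup_left
    · refine QC.le_of_le hg.affine hg'.qc ?_ hU
      rw [gen_self hg.affine]
      exact le_sup_right

/-- The zero subsheaf. -/
noncomputable def bot (M : X.Modules) : Sub M where
  obj _ := ⊥
  map_mem h s hs := by
    rw [Submodule.mem_bot] at hs ⊢
    rw [hs, map_zero]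
  local_mem s h := by
    rw [Submodule.mem_bot]
    refine section_ext M _ _ fun x hx ↦ ?_
    obtain ⟨V, hV, hxV, hs⟩ := h x hx
    exact ⟨V, hV, hxV, by rw [Submodule.mem_bot] at hs; rw [hs, map_zero]⟩

lemma goodAt_bot [M.IsQuasicoherent] (x : X) : GoodAt (bot M) x := by
  obtain ⟨_, ⟨W, hW, rfl⟩, hxW, -⟩ :=
    X.isBasis_affineOpens.exists_subset_of_mem_open (Set.mem_univ x) isOpen_univ
  refine ⟨W, hxW, hW, fun f s hs ↦ ?_, Submodule.fg_bot⟩
  obtain ⟨n, hn⟩ := (loc_of_isQuasicoherent M hW).inj f s ((Submodule.mem_bot _).mp hs)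
  exact ⟨n, (Submodule.mem_bot _).mpr hn⟩

variable (M) in
/-- The quasi-coherent subsheaves of finite type. -/
abbrev GoodSub : Type u := {N : Sub M // ∀ x : X, GoodAt N x}

instance instDirectedGoodSub [M.IsQuasicoherent] : IsDirectedOrder (GoodSub M) where
  directed N N' := ⟨⟨add N.1 N'.1, fun x ↦ goodAt_add (N.2 x) (N'.2 x)⟩,
    le_add_left _ _, le_add_right _ _⟩

instance instNonemptyGoodSub [M.IsQuasicoherent] : Nonempty (GoodSub M) :=
  ⟨⟨bot M, fun x ↦ goodAt_bot x⟩⟩

/-- Every section over a quasi-compact open lies in a quasi-coherent submodule of finite type. -/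
theorem exists_good_mem [M.IsQuasicoherent] [CompactSpace X] [QuasiSeparatedSpace X]
    {U : X.Opens} (hU : IsCompact (U : Set X)) (s : Γ(M, U)) :
    ∃ N : GoodSub M, s ∈ N.1.obj U := by
  have aff : ∀ (W : X.Opens) (hW : IsAffineOpen W) (s : Γ(M, W)),
      ∃ N : GoodSub M, s ∈ N.1.obj W := by
    intro W hW s
    obtain ⟨N, hag, hN⟩ := exists_extension_qcqs (M := M)
      (N := gen ((Submodule.span Γ(X, W) {s} : Submodule Γ(X, W) Γ(M, W)) : Set Γ(M, W)))
      (V := W) hW.isCompact
      (fun x hx ↦ ⟨W, hx, goodOn_gen hW _ (Submodule.fg_span_singleton s)⟩)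
    refine ⟨⟨N, hN⟩, ?_⟩
    rw [hag W le_rfl]
    exact subset_gen (Submodule.mem_span_singleton_self s)
  -- finite cover by affine opens
  choose W hW hxW hWU using fun x : U ↦
    X.isBasis_affineOpens.exists_subset_of_mem_open x.2 U.2
  choose W' hW' hW'' using hW
  obtain ⟨t, ht⟩ := hU.elim_finite_subcover (fun x : U ↦ (W' x : Set X)) (fun x ↦ (W' x).2)
    (fun x hx ↦ Set.mem_iUnion.mpr ⟨⟨x, hx⟩, by rw [hW'']; exact hxW ⟨x, hx⟩⟩)
  have hle : ∀ x, W' x ≤ U := fun x ↦ by
    intro y hy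
    have : y ∈ (W' x : Set X) := hy
    rw [hW''] at this
    exact hWU x this
  choose N hN using fun x : U ↦ aff (W' x) (hW' x) (res M (hle x) s)
  classical
  obtain ⟨N', hN'⟩ := Finset.exists_le (t.image N)
  refine ⟨N', N'.1.local_mem s fun x hx ↦ ?_⟩
  obtain ⟨y, hyt, hxy⟩ := Set.mem_iUnion₂.mp (ht hx)
  exact ⟨W' y, hle y, hxy, hN' (N y) (Finset.mem_image_of_mem N hyt) _ (hN y)⟩

/-- The inclusion between the modules of two subsheaves. -/
noncomputable def incl {N N' : Sub M} (h : N ≤ N') : N.toModules ⟶ N'.toModules :=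
  homMk (fun U ↦ AddMonoidHom.mk' (fun s ↦ N'.sec (N.ι.app U s) (h U (N.ι_app_mem s)))
      (fun a b ↦ N'.ι_app_injective U (by
        rw [Sub.ι_app_sec, map_add, map_add, Sub.ι_app_sec, Sub.ι_app_sec])))
    (fun U V h' s ↦ N'.ι_app_injective V (by
      simp only [AddMonoidHom.mk'_apply]
      rw [Sub.ι_app_sec, app_res, app_res, Sub.ι_app_sec]))
    (fun U r s ↦ N'.ι_app_injective U (by
      simp only [AddMonoidHom.mk'_apply]
      rw [Sub.ι_app_sec, app_smul', app_smul', Sub.ι_app_sec]))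

@[reassoc (attr := simp)]
lemma incl_ι {N N' : Sub M} (h : N ≤ N') : incl h ≫ N'.ι = N.ι := by
  apply Scheme.Modules.hom_ext
  intro U
  ext s
  rfl

variable (M) in
/-- The diagram of quasi-coherent subsheaves of finite type. -/
noncomputable def diag : GoodSub M ⥤ X.Modules where
  obj N := N.1.toModules
  map f := incl (leOfHom f)
  map_id N := by
    rw [← cancel_mono N.1.ι, incl_ι, Category.id_comp]
  map_comp {N N' N''} f g := by
    rw [← cancel_mono N''.1.ι, Category.assoc, incl_ι, incl_ι, incl_ι]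

variable (M) in
/-- The cocone over the diagram of quasi-coherent subsheaves of finite type. -/
noncomputable def cocone : Limits.Cocone (diag M) where
  pt := M
  ι := { app := fun N ↦ N.1.ι, naturality := fun N N' f ↦ by
          dsimp [diag]
          rw [incl_ι, Category.comp_id] }

lemma cocone_comm (K : Limits.Cocone (diag M)) {N N' : GoodSub M} (h : N ≤ N') {U : X.Opens}
    (s : Γ(M, U)) (hs : s ∈ N.1.obj U) :
    (K.ι.app N).app U (N.1.sec s hs) = (K.ι.app N').app U (N'.1.sec s (h U hs)) := by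
  have h1 := K.w (homOfLE h)
  have h2 := congr(($h1).app U (N.1.sec s hs))
  exact h2.symm

lemma cocone_eq [M.IsQuasicoherent] (K : Limits.Cocone (diag M)) {N N' : GoodSub M}
    {U : X.Opens} (s : Γ(M, U)) (hs : s ∈ N.1.obj U) (hs' : s ∈ N'.1.obj U) :
    (K.ι.app N).app U (N.1.sec s hs) = (K.ι.app N').app U (N'.1.sec s hs') := by
  obtain ⟨N'', h, h'⟩ := exists_ge_ge N N'
  rw [cocone_comm K h, cocone_comm K h']

lemma res_app_sec (K : Limits.Cocone (diag M)) (N : GoodSub M)
    {U V : X.Opens} (h : V ≤ U) (s : Γ(M, U)) (hs : s ∈ N.1.obj U) :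
    res K.pt h ((K.ι.app N).app U (N.1.sec s hs)) =
      (K.ι.app N).app V (N.1.sec (res M h s) (N.1.map_mem h hs)) := by
  rw [← app_res]
  rfl

/-- The value of the descended morphism on a section is characterized locally. -/
lemma exists_desc_section [M.IsQuasicoherent] [CompactSpace X] [QuasiSeparatedSpace X]
    (K : Limits.Cocone (diag M)) {U : X.Opens} (s : Γ(M, U)) :
    ∃ t : Γ(K.pt, U), ∀ (V : X.Opens) (hV : V ≤ U) (N : GoodSub M)
      (hs : res M hV s ∈ N.1.obj V), res K.pt hV t =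
        (K.ι.app N).app V (N.1.sec (res M hV s) hs) := by
  let J := {p : X.Opens × GoodSub M // ∃ (hV : p.1 ≤ U), res M hV s ∈ p.2.1.obj p.1}
  have hJ : ∀ x ∈ U, ∃ i : J, x ∈ i.1.1 := by
    intro x hx
    obtain ⟨_, ⟨W, hW, rfl⟩, hxW, hWU⟩ :=
      X.isBasis_affineOpens.exists_subset_of_mem_open hx U.2
    obtain ⟨N, hN⟩ := exists_good_mem (M := M) hW.isCompact (res M hWU s)
    exact ⟨⟨(W, N), hWU, hN⟩, hxW⟩
  obtain ⟨t, ht⟩ := exists_glue K.pt (U := U) (fun i : J ↦ i.1.1) (fun i ↦ i.2.choose) hJ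
    (fun i ↦ (K.ι.app i.1.2).app i.1.1 (i.1.2.1.sec _ i.2.choose_spec)) (by
      intro i j
      rw [res_app_sec, res_app_sec]
      simp only [res_res]
      exact cocone_eq K _ _ _)
  refine ⟨t, fun V hV N hs ↦ ?_⟩
  exact ht ⟨(V, N), hV, hs⟩

lemma desc_section_unique [M.IsQuasicoherent] [CompactSpace X] [QuasiSeparatedSpace X]
    (K : Limits.Cocone (diag M)) {U : X.Opens} (s : Γ(M, U)) (t t' : Γ(K.pt, U))
    (ht : ∀ (V : X.Opens) (hV : V ≤ U) (N : GoodSub M)
      (hs : res M hV s ∈ N.1.obj V), res K.pt hV t =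
        (K.ι.app N).app V (N.1.sec (res M hV s) hs))
    (ht' : ∀ (V : X.Opens) (hV : V ≤ U) (N : GoodSub M)
      (hs : res M hV s ∈ N.1.obj V), res K.pt hV t' =
        (K.ι.app N).app V (N.1.sec (res M hV s) hs)) : t = t' := by
  refine section_ext _ _ _ fun x hx ↦ ?_
  obtain ⟨_, ⟨W, hW, rfl⟩, hxW, hWU⟩ :=
      X.isBasis_affineOpens.exists_subset_of_mem_open hx U.2
  obtain ⟨N, hN⟩ := exists_good_mem (M := M) hW.isCompact (res M hWU s)
  exact ⟨W, hWU, hxW, by rw [ht W hWU N hN, ht' W hWU N hN]⟩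

/-- Sections where two sections lie in a common good subsheaf locally. -/
lemma exists_good_mem₂ [M.IsQuasicoherent] [CompactSpace X] [QuasiSeparatedSpace X]
    {U : X.Opens} (s s' : Γ(M, U)) {x : X} (hx : x ∈ U) :
    ∃ (W : X.Opens) (hW : W ≤ U) (_ : x ∈ W) (N : GoodSub M),
      res M hW s ∈ N.1.obj W ∧ res M hW s' ∈ N.1.obj W := by
  obtain ⟨_, ⟨W, hW, rfl⟩, hxW, hWU⟩ :=
      X.isBasis_affineOpens.exists_subset_of_mem_open hx U.2
  obtain ⟨N, hN⟩ := exists_good_mem (M := M) hW.isCompact (res M hWU s)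
  obtain ⟨N', hN'⟩ := exists_good_mem (M := M) hW.isCompact (res M hWU s')
  obtain ⟨N'', h, h'⟩ := exists_ge_ge N N'
  exact ⟨W, hWU, hxW, N'', h W hN, h' W hN'⟩

lemma sec_add (N : Sub M) {U : X.Opens} {a b c : Γ(M, U)} (ha : a ∈ N.obj U) (hb : b ∈ N.obj U)
    (hc : c ∈ N.obj U) (h : c = a + b) : N.sec c hc = N.sec a ha + N.sec b hb := by
  apply N.ι_app_injective
  rw [map_add]
  simp only [Sub.ι_app_sec, h]

lemma sec_smul (N : Sub M) {U : X.Opens} {a c : Γ(M, U)} (r : Γ(X, U)) (ha : a ∈ N.obj U)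
    (hc : c ∈ N.obj U) (h : c = r • a) : N.sec c hc = r • N.sec a ha := by
  apply N.ι_app_injective
  rw [app_smul']
  simp only [Sub.ι_app_sec, h]

/-- The descended morphism. -/
noncomputable def descHom [M.IsQuasicoherent] [CompactSpace X] [QuasiSeparatedSpace X]
    (K : Limits.Cocone (diag M)) : M ⟶ K.pt :=
  homMk (fun U ↦ AddMonoidHom.mk' (fun s : Γ(M, U) ↦ (exists_desc_section K s).choose) (by
      intro a b
      refine section_ext _ _ _ fun x hx ↦ ?_
      obtain ⟨W, hWU, hxW, N, hN, hN'⟩ := exists_good_mem₂ (M := M) a b hx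
      refine ⟨W, hWU, hxW, ?_⟩
      have hab : res M hWU (a + b) ∈ N.1.obj W := by
        rw [map_add]; exact Submodule.add_mem _ hN hN'
      rw [map_add, (exists_desc_section K (a + b)).choose_spec W hWU N hab,
        (exists_desc_section K a).choose_spec W hWU N hN,
        (exists_desc_section K b).choose_spec W hWU N hN', ← map_add]
      exact congrArg _ (sec_add N.1 hN hN' hab (map_add _ _ _))))
    (by
      intro U V h s
      simp only [AddMonoidHom.mk'_apply]
      refine desc_section_unique K (res M h s) _ _ (exists_desc_section K (res M h s)).choose_spec ?_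
      intro W hW N hs
      rw [res_res]
      have hs' : res M (hW.trans h) s ∈ N.1.obj W := by rwa [res_res] at hs
      rw [(exists_desc_section K s).choose_spec W (hW.trans h) N hs']
      congr 1
      apply N.1.ι_app_injective
      simp only [Sub.ι_app_sec, res_res])
    (by
      intro U r s
      simp only [AddMonoidHom.mk'_apply]
      refine section_ext _ _ _ fun x hx ↦ ?_
      obtain ⟨W, hWU, hxW, N, hN, -⟩ := exists_good_mem₂ (M := M) s s hx
      refine ⟨W, hWU, hxW, ?_⟩
      have hrs : res M hWU (r • s) ∈ N.1.obj W := by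
        rw [res_smul]; exact Submodule.smul_mem _ _ hN
      rw [res_smul, (exists_desc_section K (r • s)).choose_spec W hWU N hrs,
        (exists_desc_section K s).choose_spec W hWU N hN, ← app_smul']
      exact congrArg _ (sec_smul N.1 _ hN hrs (res_smul _ _ _ _)))

variable (M) in
/-- Stacks 01PG: on a qcqs scheme a quasi-coherent module is the filtered colimit of its
quasi-coherent submodules of finite type. -/
noncomputable def isColimitCocone [M.IsQuasicoherent] [CompactSpace X] [QuasiSeparatedSpace X] :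
    Limits.IsColimit (cocone M) where
  desc K := descHom K
  fac K N := by
    apply Scheme.Modules.hom_ext
    intro U
    ext s
    have hs : N.1.ι.app U s ∈ N.1.obj U := N.1.ι_app_mem s
    have h1 := (exists_desc_section K (N.1.ι.app U s)).choose_spec U le_rfl N (by
      rw [res_self]; exact hs)
    rw [res_self] at h1
    refine h1.trans ?_
    congr 1
    apply N.1.ι_app_injective
    simp only [Sub.ι_app_sec, res_self]
  uniq K m hm := by
    apply Scheme.Modules.hom_ext
    intro U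
    ext s
    refine desc_section_unique K s _ _ ?_ (exists_desc_section K s).choose_spec
    intro V hV N hs
    have h1 := congr(($(hm N)).app V (N.1.sec (res M hV s) hs))
    rw [← app_res]
    exact h1

lemma isQCoh_diag [M.IsQuasicoherent] (N : GoodSub M) :
    ((diag M).obj N).IsQuasicoherent := (isQuasicoherent_of_good N.2).1

lemma isFT_diag [M.IsQuasicoherent] (N : GoodSub M) :
    SheafOfModules.IsFiniteType (R := X.ringCatSheaf) ((diag M).obj N) :=
  (isQuasicoherent_of_good N.2).2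

instance [M.IsQuasicoherent] : IsFiltered (GoodSub M) := inferInstance

end Groth.Agent.Ega1.SubUnion
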